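import Groth.Agent.CohPullX.DegreeZero
import Groth.Agent.S0458

/-!
# Fibre ranks near a point of exactness; vanishing above the dimension
-/

set_option autoImplicit false
set_option linter.style.haveILetI false
set_option linter.unusedSectionVars false
set_option backward.isDefEq.respectTransparency false
set_option backward.isDefEq.respectTransparency.types false
set_option maxHeartbeats 1000000

universe u

open CategoryTheory CategoryTheory.Limits AlgebraicGeometry TopologicalSpace
open scoped TensorProduct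

namespace Groth.Agent.CohPullX

open Groth.Agent

variable {X S : Scheme.{u}} {f : X ⟶ S} {M : X.Modules} [HasInjectiveResolutions X.Modules]

/-- The fibre rank is constant near a point of exactness. -/
theorem IsFpModel.exists_rank_nhd {V : S.Opens} {hV : IsAffineOpen V} {A₀ : Type u} [CommRing A₀]
    [IsNoetherianRing A₀] {φ : A₀ →+* Γ(S, V)} {P : ChainComplex (ModuleCat.{u} A₀) ℤ}
    (hP : IsFpModel f M hV φ P) (p : ℕ) {y : S} (hy : y ∈ V)
    (h : QCoh.IsExactT (QCoh.locCx P (modelPt φ hV hy)) (-(p : ℤ))) :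
    ∃ U : S.Opens, y ∈ U ∧ ∀ z ∈ U, CohIII.fiberRank f M p z = CohIII.fiberRank f M p y := by
  obtain ⟨r, hr, hfree⟩ := exists_free_homology_bc P hP.1 hP.flat _ _ h
  refine ⟨S.basicOpen (φ r), (QCoh.mem_basicOpen_iff_notMem hV hy (φ r)).2 fun hm => hr hm, fun z hz => ?_⟩
  have hzV : z ∈ V := S.basicOpen_le _ hz
  let χ := QCoh.evalV z hzV
  have hu : IsUnit (χ (φ r)) := isUnit_iff_ne_zero.2 ((S.evaluation_ne_zero_iff_mem_basicOpen z hzV (φ r)).2 hz)
  obtain ⟨e⟩ := hfree _ (χ.comp φ) hu
  have hker : RingHom.ker (χ.comp φ) = (modelPt φ hV hzV).asIdeal := by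
    ext a
    exact (RingHom.mem_ker).trans
      ((RingHom.mem_ker (f := χ)).symm.trans (by rw [QCoh.ker_evalV hV hzV]; rfl))
  rw [(hP.2.2.2.2.2 p z hzV).1, ← QCoh.finrank_bc_eq_dRank (χ.comp φ) P _ hker, e.finrank_eq,
    (hP.2.2.2.2.2 p y hy).1]
  simp only [Module.finrank_finsupp_self, Fintype.card_ulift, Fintype.card_fin]

variable [IsProper f] [LocallyOfFinitePresentation f] (hfp : CohB1.IsFP M) (hfl : FlatMod.IsFlatOver f M)

include hfp hfl

/-- Vanishing of fibre cohomology in a given degree is an open condition. -/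
theorem exists_subsingleton_fiberH_nhd (y : S) (p : ℕ) (h : Subsingleton (CohIII.fiberH f M y p)) :
    ∃ U : S.Opens, y ∈ U ∧ ∀ z ∈ U, Subsingleton (CohIII.fiberH f M z p) := by
  obtain ⟨_, ⟨V, hV, rfl⟩, hy, -⟩ :=
    S.isBasis_affineOpens.exists_subset_of_mem_open (Set.mem_univ y) isOpen_univ
  have hV' : IsAffineOpen V := hV
  obtain ⟨A₀, _, hA, φ, P, hP⟩ := exists_isFpModel hfp hfl hV'
  haveI := hA
  obtain ⟨U, hyU, hU⟩ := hP.exists_rank_nhd p hy (QCoh.isExactT_of_isZero (hP.zero_of_vanish hy h))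
  refine ⟨U ⊓ V, ⟨hyU, hy⟩, fun z hz => ?_⟩
  have h0 : CohIII.fiberRank f M p y = 0 := Module.finrank_zero_of_subsingleton
  haveI := (hP.2.2.2.2.2 p z hz.2).2
  exact Module.finrank_zero_iff.1 ((hU z hz.1).trans h0)

omit hfp hfl in
/-- Cohomology of a fibre vanishes above its dimension. -/
theorem subsingleton_fiberH_of_dim (y : S) (d : ℕ) (hd : topologicalKrullDim ↥(f.fiber y) ≤ d) (p : ℕ) (hp : d < p) :
    Subsingleton (CohIII.fiberH f M y p) := by
  haveI : IsLocallyNoetherian (f.fiber y) :=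
    LocallyOfFiniteType.isLocallyNoetherian (f.fiberToSpecResidueField y)
  haveI : CompactSpace ↥(f.fiber y) :=
    QuasiCompact.compactSpace_of_compactSpace (f.fiberToSpecResidueField y)
  haveI : IsNoetherian (f.fiber y) := {}
  exact S0458.result (X := (f.fiber y).toPresheafedSpace.carrier) d hd _ p hp

end Groth.Agent.CohPullX
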