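import Groth.Agent.CohPullX.FpModel
import Groth.Agent.QCoh.RpushExchange

/-!
# Exchange for proper morphisms of finite presentation
-/

set_option autoImplicit false
set_option linter.style.haveILetI false
set_option linter.unusedSectionVars false
set_option backward.isDefEq.respectTransparency false
set_option backward.isDefEq.respectTransparency.types false
set_option maxHeartbeats 1000000

universe u

open CategoryTheory CategoryTheory.Limits AlgebraicGeometry TopologicalSpace
open scoped TensorProduct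

namespace Groth.Agent.CohPullX

open Groth.Agent

section Algebra

variable {A : Type u} [CommRing A]

/-- Free at a prime implies free over every algebra inverting some element outside the prime. -/
theorem exists_free_away (M : Type u) [AddCommGroup M] [Module A M] [Module.FinitePresentation A M]
    (x : PrimeSpectrum A)
    [Module.Free (Localization.AtPrime x.asIdeal) (Localization.AtPrime x.asIdeal ⊗[A] M)] :
    ∃ r ∉ x.asIdeal, ∀ (B : Type u) [CommRing B] [Algebra A B], IsUnit (algebraMap A B r) →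
      Nonempty ((B ⊗[A] M) ≃ₗ[B] (ULift.{u} (Fin (Module.finrank (Localization.AtPrime x.asIdeal)
        (Localization.AtPrime x.asIdeal ⊗[A] M))) →₀ B)) := by
  haveI : IsLocalizedModule x.asIdeal.primeCompl
      (TensorProduct.mk A (Localization.AtPrime x.asIdeal) M 1) :=
    (isLocalizedModule_iff_isBaseChange x.asIdeal.primeCompl (Localization.AtPrime x.asIdeal) _).2
      (TensorProduct.isBaseChange A M (Localization.AtPrime x.asIdeal))
  obtain ⟨r, hr, hfr, hrank⟩ := Module.FinitePresentation.exists_free_localizedModule_powers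
    x.asIdeal.primeCompl (TensorProduct.mk A (Localization.AtPrime x.asIdeal) M 1)
    (Localization.AtPrime x.asIdeal)
  refine ⟨r, hr, fun B _ _ hu => ?_⟩
  let L := Localization.Away r
  haveI : Nontrivial L := (IsLocalization.Away.lift (S := L) r
    (IsLocalization.map_units (Localization.AtPrime x.asIdeal) (⟨r, hr⟩ : x.asIdeal.primeCompl))).domain_nontrivial
  let τ : L →+* B := IsLocalization.Away.lift r hu
  letI := τ.toAlgebra
  haveI : IsScalarTower A L B := IsScalarTower.of_algebraMap_eq fun a =>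
    (IsLocalization.Away.lift_eq r hu a).symm
  have hbc : IsBaseChange L (LocalizedModule.mkLinearMap (Submonoid.powers r) M) :=
    (isLocalizedModule_iff_isBaseChange (Submonoid.powers r) L _).1 inferInstance
  haveI := hfr
  haveI : Module.Finite L (LocalizedModule.Away r M) :=
    Module.Finite.of_isLocalizedModule (Submonoid.powers r) (LocalizedModule.mkLinearMap (Submonoid.powers r) M)
  let b := (Module.finBasisOfFinrankEq L (LocalizedModule.Away r M) hrank).map hbc.equiv.symm
  exact ⟨(TensorProduct.AlgebraTensorModule.cancelBaseChange A L B B M).symm.trans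
    ((b.baseChange B).reindex Equiv.ulift.symm).repr⟩

variable [IsNoetherianRing A] (P : ChainComplex (ModuleCat.{u} A) ℤ)

/-- Exactness at a prime gives free homology after every base change inverting some element outside it. -/
theorem exists_free_homology_bc (hfin : ∀ i, Module.Finite A (P.X i)) (hfl : ∀ i, Module.Flat A (P.X i))
    (x : PrimeSpectrum A) (q : ℤ) (h : QCoh.IsExactT (QCoh.locCx P x) q) :
    ∃ r ∉ x.asIdeal, ∀ (B : Type u) [CommRing B] (φ : A →+* B), IsUnit (φ r) →
      Nonempty ((CohIII.bcCx φ P).homology q ≃ₗ[B]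
        (ULift.{u} (Fin (CohIII.dRank P q x)) →₀ B)) := by
  let Ax := Localization.AtPrime x.asIdeal
  haveI : IsNoetherianRing Ax := IsLocalization.isNoetherianRing x.asIdeal.primeCompl _ inferInstance
  have hr : q - 1 + 1 = q := by lia
  -- the cokernel
  haveI := hfin (q - 1)
  haveI : Module.Flat Ax (Ax ⊗[A] FlatCxLib.Coker P q (q - 1)) :=
    (FlatCxLib.preservesEpi_bcCx_iff P hfl hr).1 h.2
  haveI : Module.Finite A (FlatCxLib.Coker P q (q - 1)) := inferInstance
  haveI : Module.FinitePresentation A (FlatCxLib.Coker P q (q - 1)) := Module.finitePresentation_of_finite _ _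
  haveI : Module.Free Ax (Ax ⊗[A] FlatCxLib.Coker P q (q - 1)) := Module.free_of_flat_of_isLocalRing
  obtain ⟨r₁, hr₁, hK⟩ := exists_free_away (FlatCxLib.Coker P q (q - 1)) x
  -- the homology
  haveI := FlatCxLib.finite_hom' (P := P) hfin (q + 1) q (q - 1)
  haveI : Module.Finite A (P.homology q) :=
    Module.Finite.equiv (FlatCxLib.hom'Equiv (P := P) (show q + 1 = q + 1 from rfl) hr)
  haveI : Module.FinitePresentation A (P.homology q) := Module.finitePresentation_of_finite _ _
  obtain ⟨eH⟩ := QCoh.nonempty_homology_locCx P x q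
  obtain ⟨hfree, hrank⟩ := QCoh.free_of_isExactT (P := QCoh.locCx P x) (FlatCxLib.flat_bcCx_X P hfl)
    (QCoh.finite_bcCx_X_aux P _ hfin) h
  haveI : Module.Free Ax (Ax ⊗[A] P.homology q) := Module.Free.of_equiv eH
  obtain ⟨r₂, hr₂, hH⟩ := exists_free_away (P.homology q) x
  have hd : Module.finrank Ax (Ax ⊗[A] P.homology q) = CohIII.dRank P q x :=
    eH.finrank_eq.symm.trans (hrank.trans (QCoh.dRank_locCx_closedPoint P x q))
  rw [hd] at hH
  refine ⟨r₁ * r₂, fun hm => (x.isPrime.mem_or_mem hm).elim hr₁ hr₂, fun B _ φ hu => ?_⟩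
  let L := Localization.Away (r₁ * r₂)
  have hL := IsLocalization.Away.algebraMap_isUnit (S := L) (r₁ * r₂)
  rw [map_mul] at hL
  obtain ⟨eK⟩ := hK L (isUnit_of_mul_isUnit_left hL)
  obtain ⟨eL⟩ := hH L (isUnit_of_mul_isUnit_right hL)
  let τ : L →+* B := IsLocalization.Away.lift (r₁ * r₂) hu
  let P' := CohIII.bcCx (algebraMap A L) P
  haveI : Module.Flat L (L ⊗[A] FlatCxLib.Coker P q (q - 1)) := Module.Flat.of_linearEquiv eK
  haveI : Module.Flat L (FlatCxLib.Coker P' q (q - 1)) := (FlatCxLib.flat_coker_bcCx_iff P q (q - 1)).2 ‹_›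
  obtain ⟨eP'⟩ := QCoh.nonempty_homology_bc_aux P (algebraMap A L) q OreLocalization.instAlgebra (Algebra.algebra_ext _ _ fun _ => rfl)
    (IsLocalization.flat L (Submonoid.powers (r₁ * r₂)))
  letI := τ.toAlgebra
  obtain ⟨eB⟩ := FlatCxLib.nonempty_homology_bcCx_equiv P' (B := B) (FlatCxLib.flat_bcCx_X P hfl)
    (show q + 1 = q + 1 from rfl) hr
  let E : CohIII.bcCx φ P ≅ CohIII.bcCx (algebraMap L B) P' :=
    HomologicalComplex.Hom.isoOfComponents
      (fun n => (eqToIso (congrArg ModuleCat.extendScalars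
          (show φ = (algebraMap L B).comp (algebraMap A L) from
            (IsLocalization.Away.lift_comp (S := L) (r₁ * r₂) hu).symm)) ≪≫
        ModuleCat.extendScalarsComp (algebraMap A L) (algebraMap L B)).app (P.X n))
      (fun a b _ => ((eqToIso (congrArg ModuleCat.extendScalars
          (show φ = (algebraMap L B).comp (algebraMap A L) from
            (IsLocalization.Away.lift_comp (S := L) (r₁ * r₂) hu).symm)) ≪≫
        ModuleCat.extendScalarsComp (algebraMap A L) (algebraMap L B)).hom.naturality (P.d a b)).symm)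
  let l : FlatCxLib.Hom' P' (q + 1) q (q - 1) ≃ₗ[L] (ULift.{u} (Fin (CohIII.dRank P q x)) →₀ L) :=
    (FlatCxLib.hom'Equiv (P := P') (show q + 1 = q + 1 from rfl) hr).trans (eP'.trans eL)
  exact ⟨(((HomologicalComplex.homologyFunctor _ _ q).mapIso E).toLinearEquiv.trans eB.symm).trans
    (((Module.Basis.ofRepr l).baseChange B).repr)⟩

end Algebra

section Scheme

variable {X S : Scheme.{u}} {f : X ⟶ S} {M : X.Modules} [HasInjectiveResolutions X.Modules]
  {V : S.Opens} {hV : IsAffineOpen V} {A₀ : Type u} [CommRing A₀] [IsNoetherianRing A₀]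
  {φ : A₀ →+* Γ(S, V)} {P : ChainComplex (ModuleCat.{u} A₀) ℤ}

/-- The point of the model below a point of `V`. -/
noncomputable abbrev modelPt (φ : A₀ →+* Γ(S, V)) (hV : IsAffineOpen V) {y : S} (hy : y ∈ V) :
    PrimeSpectrum A₀ :=
  PrimeSpectrum.comap φ (hV.primeIdealOf ⟨y, hy⟩)

theorem IsFpModel.flat (hP : IsFpModel f M hV φ P) (i : ℤ) : Module.Flat A₀ (P.X i) := by
  haveI := hP.2.1 i
  infer_instance

theorem IsFpModel.zero_of_pos (hP : IsFpModel f M hV φ P) (x : PrimeSpectrum A₀) {q : ℤ} (hq : 0 < q) (N) :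
    IsZero ((CohIII.TFun (QCoh.locCx P x) q).obj N) :=
  QCoh.isZero_T_locCx P x (hP.2.2.2.1 q hq) N

theorem IsFpModel.zero_of_vanish (hP : IsFpModel f M hV φ P) {p : ℕ} {y : S} (hy : y ∈ V)
    (h : Subsingleton (CohIII.fiberH f M y p)) (N) :
    IsZero ((CohIII.TFun (QCoh.locCx P (modelPt φ hV hy)) (-(p : ℤ))).obj N) := by
  have h0 : CohIII.dRank (QCoh.locCx P (modelPt φ hV hy)) (-(p : ℤ)) (IsLocalRing.closedPoint _) = 0 := by
    rw [QCoh.dRank_locCx_closedPoint, ← (hP.2.2.2.2.2 p y hy).1]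
    exact Module.finrank_zero_of_subsingleton
  haveI : IsNoetherianRing (Localization.AtPrime (modelPt φ hV hy).asIdeal) :=
    IsLocalization.isNoetherianRing (modelPt φ hV hy).asIdeal.primeCompl _ inferInstance
  exact (QCoh.epi_and_isZero_of_dRank (FlatCxLib.flat_bcCx_X P hP.flat)
    (QCoh.finite_bcCx_X_aux P _ hP.1) h0).2.1 N

/-- Exactness in degree `p` follows from vanishing in the two neighbouring degrees. -/
theorem IsFpModel.isExactT_of_neighbours (hP : IsFpModel f M hV φ P) (p : ℕ) {y : S} (hy : y ∈ V)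
    (h₁ : Subsingleton (CohIII.fiberH f M y (p + 1)))
    (h₀ : ∀ j : ℕ, j + 1 = p → Subsingleton (CohIII.fiberH f M y j)) :
    QCoh.IsExactT (QCoh.locCx P (modelPt φ hV hy)) (-(p : ℤ)) := by
  have hfl := FlatCxLib.flat_bcCx_X P hP.flat (B := Localization.AtPrime (modelPt φ hV hy).asIdeal)
  have hup : QCoh.IsExactT (QCoh.locCx P (modelPt φ hV hy)) (-(p : ℤ) + 1) := by
    refine QCoh.isExactT_of_isZero fun N => ?_
    cases p with
    | zero => exact hP.zero_of_pos _ (by norm_num) N
    | succ j =>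
      rw [show -((j + 1 : ℕ) : ℤ) + 1 = -(j : ℤ) by lia]
      exact hP.zero_of_vanish hy (h₀ j rfl) N
  have hdown : QCoh.IsExactT (QCoh.locCx P (modelPt φ hV hy)) (-(p : ℤ) - 1) := by
    refine QCoh.isExactT_of_isZero fun N => ?_
    rw [show -(p : ℤ) - 1 = -((p + 1 : ℕ) : ℤ) by lia]
    exact hP.zero_of_vanish hy h₁ N
  exact ⟨(FlatCxLib.preservesEpi_iff_preservesMono hfl (show -(p : ℤ) + 1 = -(p : ℤ) + 1 from rfl)).1 hup.2,
    (FlatCxLib.preservesEpi_iff_preservesMono hfl (show -(p : ℤ) - 1 + 1 = -(p : ℤ) by lia)).2 hdown.1⟩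

/-- Exactness gives an affine neighbourhood with free sections and a free restriction. -/
theorem IsFpModel.exists_free_nhd [QuasiCompact f] [QuasiSeparated f] (hP : IsFpModel f M hV φ P)
    (hM : Coh.IsQCoh M) (p : ℕ) {y : S} (hy : y ∈ V)
    (h : QCoh.IsExactT (QCoh.locCx P (modelPt φ hV hy)) (-(p : ℤ))) :
    ∃ U : S.Opens, y ∈ U ∧ IsAffineOpen U ∧
      Nonempty (Γ((Coh.Rpush f p).obj M, U) ≃ₗ[Γ(S, U)]
        (ULift.{u} (Fin (CohIII.fiberRank f M p y)) →₀ Γ(S, U))) ∧
      Nonempty (((Coh.Rpush f p).obj M).restrict U.ι ≅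
        FlatMod.freeMod (U : Scheme.{u}) (CohIII.fiberRank f M p y)) := by
  obtain ⟨r, hr, hfree⟩ := exists_free_homology_bc P hP.1 hP.flat _ _ h
  have hyU : y ∈ S.basicOpen (φ r) := (QCoh.mem_basicOpen_iff_notMem hV hy (φ r)).2 fun hm => hr hm
  obtain ⟨e₁⟩ := hP.2.2.2.2.1 (S.basicOpen (φ r)) (S.basicOpen_le _) (hV.basicOpen _) p
  obtain ⟨e₂⟩ := hfree Γ(S, S.basicOpen (φ r))
    ((S.presheaf.map (homOfLE (S.basicOpen_le (φ r))).op).hom.comp φ)
    (S.toRingedSpace.isUnit_res_basicOpen (φ r))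
  rw [← (hP.2.2.2.2.2 p y hy).1] at e₂
  exact ⟨_, hyU, hV.basicOpen _, ⟨e₁.trans e₂⟩,
    QCoh.exists_free_restrict (QCoh.isQCoh_Rpush f hM p) (hV.basicOpen _) (e₁.trans e₂)⟩

variable [IsProper f] [LocallyOfFinitePresentation f] (hfp : CohB1.IsFP M) (hfl : FlatMod.IsFlatOver f M)

include hfp hfl

/-- A vanishing fibre cohomology group gives vanishing near the point. -/
theorem exists_vanish_nhd (y : S) (p : ℕ) (h : Subsingleton (CohIII.fiberH f M y p)) :
    ∃ U : S.Opens, y ∈ U ∧ IsAffineOpen U ∧ Subsingleton Γ((Coh.Rpush f p).obj M, U) ∧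
      IsZero (((Coh.Rpush f p).obj M).restrict U.ι) := by
  obtain ⟨_, ⟨V, hV, rfl⟩, hy, -⟩ :=
    S.isBasis_affineOpens.exists_subset_of_mem_open (Set.mem_univ y) isOpen_univ
  have hV' : IsAffineOpen V := hV
  obtain ⟨A₀, _, hA, φ, P, hP⟩ := exists_isFpModel hfp hfl hV'
  haveI := hA
  obtain ⟨U, hU, hUa, ⟨l⟩, ⟨i⟩⟩ := hP.exists_free_nhd (QCoh.isQCoh_of_isFP hfp) p hy
    (QCoh.isExactT_of_isZero (hP.zero_of_vanish hy h))
  have h0 : CohIII.fiberRank f M p y = 0 := Module.finrank_zero_of_subsingleton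
  haveI : IsEmpty (ULift.{u} (Fin (CohIII.fiberRank f M p y))) := by rw [h0]; infer_instance
  exact ⟨U, hU, hUa, l.toEquiv.subsingleton,
    (QCoh.isZero_freeMod_zero' _).of_iso (i ≪≫ eqToIso (congrArg _ h0))⟩

/-- Vanishing in the neighbouring degrees gives a free direct image near the point. -/
theorem exists_free_of_neighbours (y : S) (p : ℕ) (h₁ : Subsingleton (CohIII.fiberH f M y (p + 1)))
    (h₀ : ∀ j : ℕ, j + 1 = p → Subsingleton (CohIII.fiberH f M y j)) :
    ∃ U : S.Opens, y ∈ U ∧ Nonempty (((Coh.Rpush f p).obj M).restrict U.ι ≅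
      FlatMod.freeMod (U : Scheme.{u}) (CohIII.fiberRank f M p y)) := by
  obtain ⟨_, ⟨V, hV, rfl⟩, hy, -⟩ :=
    S.isBasis_affineOpens.exists_subset_of_mem_open (Set.mem_univ y) isOpen_univ
  have hV' : IsAffineOpen V := hV
  obtain ⟨A₀, _, hA, φ, P, hP⟩ := exists_isFpModel hfp hfl hV'
  haveI := hA
  obtain ⟨U, hU, -, -, i⟩ := hP.exists_free_nhd (QCoh.isQCoh_of_isFP hfp) p hy
    (hP.isExactT_of_neighbours p hy h₁ h₀)
  exact ⟨U, hU, i⟩

end Scheme

section Restrict

variable {Y : Scheme.{u}} {N : Y.Modules}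

noncomputable def restrictLE (N : Y.Modules) {U W : Y.Opens} (h : W ≤ U) :
    N.restrict W.ι ≅ (N.restrict U.ι).restrict (Y.homOfLE h) :=
  (Scheme.Modules.restrictFunctorCongr (Y.homOfLE_ι h).symm).app N ≪≫ (QCoh.restrictRestrict N _ _).symm

theorem isZero_restrict_of_le {U W : Y.Opens} (h : W ≤ U) (hz : IsZero (N.restrict U.ι)) :
    IsZero (N.restrict W.ι) :=
  ((Scheme.Modules.restrictFunctor (Y.homOfLE h)).map_isZero hz).of_iso (restrictLE N h)

theorem isFinLocFree_freeMod (n : ℕ) : FlatMod.IsFinLocFree (FlatMod.freeMod Y n) := fun _ =>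
  ⟨⊤, n, trivial, ⟨QCoh.freeModRestrict _ n⟩⟩

theorem isFinLocFree_of_free_le {U W : Y.Opens} {n : ℕ} (h : W ≤ U)
    (e : N.restrict U.ι ≅ FlatMod.freeMod (U : Scheme.{u}) n) : FlatMod.IsFinLocFree (N.restrict W.ι) :=
  fun _ => ⟨⊤, n, trivial, ⟨(Scheme.Modules.restrictFunctor _).mapIso
    (restrictLE N h ≪≫ (Scheme.Modules.restrictFunctor (Y.homOfLE h)).mapIso e ≪≫ QCoh.freeModRestrict _ n) ≪≫
      QCoh.freeModRestrict _ n⟩⟩

end Restrict

end Groth.Agent.CohPullX
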