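import Groth.Agent.QCoh.FlatBC
import Groth.Agent.QCoh.GodLoc
import Groth.Agent.QCoh.Qcqs
import Mathlib.AlgebraicGeometry.Morphisms.Flat
import Mathlib.LinearAlgebra.TensorProduct.Pi
import Mathlib.LinearAlgebra.TensorProduct.Prod

/-!
# Sections over quasi-compact opens commute with flat base change, by the natural map
-/

set_option autoImplicit false
set_option backward.isDefEq.respectTransparency false
set_option backward.isDefEq.respectTransparency.types false
set_option linter.style.haveILetI false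

universe u

open CategoryTheory CategoryTheory.Limits AlgebraicGeometry TopologicalSpace Opposite
open scoped TensorProduct

namespace Groth.Agent.CohPullX

open Groth.Agent.QCoh

section Alg

variable {A B : Type u} [CommRing A] [CommRing B] [Algebra A B] [Module.Flat A B]

/-- Injectivity of a base change is tested on a finite separating family. -/
theorem injective_lift_of_family {ι : Type u} [Finite ι] {M N : Type u} [AddCommGroup M] [Module A M]
    [AddCommGroup N] [Module A N] [Module B N] [IsScalarTower A B N]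
    {Mi Ni : ι → Type u} [∀ i, AddCommGroup (Mi i)] [∀ i, Module A (Mi i)]
    [∀ i, AddCommGroup (Ni i)] [∀ i, Module A (Ni i)] [∀ i, Module B (Ni i)] [∀ i, IsScalarTower A B (Ni i)]
    (l : M →ₗ[A] N) (li : ∀ i, Mi i →ₗ[A] Ni i) (r : ∀ i, M →ₗ[A] Mi i) (r' : ∀ i, N →ₗ[B] Ni i)
    (hr : ∀ x, (∀ i, r i x = 0) → x = 0) (hc : ∀ i x, r' i (l x) = li i (r i x))
    (hli : ∀ i, Function.Injective ((li i).liftBaseChange B)) : Function.Injective (l.liftBaseChange B) := by
  classical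
  haveI := Fintype.ofFinite ι
  refine (injective_iff_map_eq_zero _).2 fun z hz => ?_
  have hri : Function.Injective (LinearMap.pi r) :=
    (injective_iff_map_eq_zero _).2 fun x hx => hr x fun i => congrFun hx i
  refine Module.Flat.lTensor_preserves_injective_linearMap (M := B) (LinearMap.pi r) hri ?_
  rw [map_zero]
  apply (TensorProduct.piRight A A B Mi).injective
  rw [map_zero]
  funext i
  apply hli i
  rw [Pi.zero_apply, map_zero]
  have key : ∀ w : B ⊗[A] M, (li i).liftBaseChange B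
      (TensorProduct.piRight A A B Mi ((LinearMap.pi r).lTensor B w) i) = r' i (l.liftBaseChange B w) := fun w => by
    induction w using TensorProduct.induction_on with
    | zero => simp
    | tmul b m => simp [hc]
    | add a b ha hb => simp only [map_add, Pi.add_apply, ha, hb]
  rw [key, hz, map_zero]

/-- Bijectivity of a base change for two pieces. -/
theorem bijective_lift_of_two {M M₁ M₂ M₃ N N₁ N₂ N₃ : Type u} [AddCommGroup M] [Module A M]
    [AddCommGroup M₁] [Module A M₁] [AddCommGroup M₂] [Module A M₂] [AddCommGroup M₃] [Module A M₃]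
    [AddCommGroup N] [Module A N] [Module B N] [IsScalarTower A B N]
    [AddCommGroup N₁] [Module A N₁] [Module B N₁] [IsScalarTower A B N₁]
    [AddCommGroup N₂] [Module A N₂] [Module B N₂] [IsScalarTower A B N₂]
    [AddCommGroup N₃] [Module A N₃] [Module B N₃] [IsScalarTower A B N₃]
    (l : M →ₗ[A] N) (l₁ : M₁ →ₗ[A] N₁) (l₂ : M₂ →ₗ[A] N₂) (l₃ : M₃ →ₗ[A] N₃)
    (r₁ : M →ₗ[A] M₁) (r₂ : M →ₗ[A] M₂) (s₁ : M₁ →ₗ[A] M₃) (s₂ : M₂ →ₗ[A] M₃)
    (r₁' : N →ₗ[B] N₁) (r₂' : N →ₗ[B] N₂) (s₁' : N₁ →ₗ[B] N₃) (s₂' : N₂ →ₗ[B] N₃)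
    (hr : ∀ x, r₁ x = 0 → r₂ x = 0 → x = 0) (hex : ∀ a b, s₁ a = s₂ b → ∃ x, r₁ x = a ∧ r₂ x = b)
    (hcr : ∀ x, s₁ (r₁ x) = s₂ (r₂ x))
    (hr' : ∀ y, r₁' y = 0 → r₂' y = 0 → y = 0) (hcr' : ∀ y, s₁' (r₁' y) = s₂' (r₂' y))
    (h1 : ∀ x, r₁' (l x) = l₁ (r₁ x)) (h2 : ∀ x, r₂' (l x) = l₂ (r₂ x))
    (h31 : ∀ x, s₁' (l₁ x) = l₃ (s₁ x)) (h32 : ∀ x, s₂' (l₂ x) = l₃ (s₂ x))
    (hb₁ : Function.Bijective (l₁.liftBaseChange B)) (hb₂ : Function.Bijective (l₂.liftBaseChange B))
    (hi₃ : Function.Injective (l₃.liftBaseChange B)) : Function.Bijective (l.liftBaseChange B) := by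
  have k1 : ∀ w, r₁' (l.liftBaseChange B w) = l₁.liftBaseChange B (r₁.lTensor B w) := fun w => by
    induction w using TensorProduct.induction_on with
    | zero => simp
    | tmul b m => simp [h1]
    | add a b ha hb => simp only [map_add, ha, hb]
  have k2 : ∀ w, r₂' (l.liftBaseChange B w) = l₂.liftBaseChange B (r₂.lTensor B w) := fun w => by
    induction w using TensorProduct.induction_on with
    | zero => simp
    | tmul b m => simp [h2]
    | add a b ha hb => simp only [map_add, ha, hb]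
  have k31 : ∀ w, s₁' (l₁.liftBaseChange B w) = l₃.liftBaseChange B (s₁.lTensor B w) := fun w => by
    induction w using TensorProduct.induction_on with
    | zero => simp
    | tmul b m => simp [h31]
    | add a b ha hb => simp only [map_add, ha, hb]
  have k32 : ∀ w, s₂' (l₂.liftBaseChange B w) = l₃.liftBaseChange B (s₂.lTensor B w) := fun w => by
    induction w using TensorProduct.induction_on with
    | zero => simp
    | tmul b m => simp [h32]
    | add a b ha hb => simp only [map_add, ha, hb]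
  let R : M →ₗ[A] M₁ × M₂ := r₁.prod r₂
  let D : M₁ × M₂ →ₗ[A] M₃ := s₁.comp (LinearMap.fst A M₁ M₂) - s₂.comp (LinearMap.snd A M₁ M₂)
  have hR : Function.Injective R := (injective_iff_map_eq_zero _).2 fun x hx =>
    hr x (congrArg Prod.fst hx) (congrArg Prod.snd hx)
  have hex' : Function.Exact R D := fun p => by
    refine ⟨fun hp => ?_, ?_⟩
    · obtain ⟨x, hx₁, hx₂⟩ := hex p.1 p.2 (sub_eq_zero.1 hp)
      exact ⟨x, Prod.ext hx₁ hx₂⟩
    · rintro ⟨x, rfl⟩
      exact sub_eq_zero.2 (hcr x)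
  let e := TensorProduct.prodRight A A B M₁ M₂
  have ke : ∀ w, e (R.lTensor B w) = (r₁.lTensor B w, r₂.lTensor B w) := fun w => by
    induction w using TensorProduct.induction_on with
    | zero => simp only [map_zero]; rfl
    | tmul b m => rfl
    | add a b ha hb => simp only [map_add, ha, hb, Prod.mk_add_mk]
  constructor
  · refine (injective_iff_map_eq_zero _).2 fun w hw => ?_
    refine Module.Flat.lTensor_preserves_injective_linearMap (M := B) R hR ?_
    rw [map_zero]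
    apply e.injective
    rw [ke, map_zero, Prod.mk_eq_zero]
    exact ⟨hb₁.1 (by rw [← k1, hw, map_zero, map_zero]), hb₂.1 (by rw [← k2, hw, map_zero, map_zero])⟩
  · intro y
    obtain ⟨z₁, hz₁⟩ := hb₁.2 (r₁' y)
    obtain ⟨z₂, hz₂⟩ := hb₂.2 (r₂' y)
    have hD : ∀ p, D.lTensor B p = s₁.lTensor B (e p).1 - s₂.lTensor B (e p).2 := fun p => by
      induction p using TensorProduct.induction_on with
      | zero => simp
      | tmul b m => simp [D, e, TensorProduct.tmul_sub]
      | add a b ha hb => simp only [map_add, ha, hb, Prod.fst_add, Prod.snd_add]; abel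
    have h0 : D.lTensor B (e.symm (z₁, z₂)) = 0 := by
      rw [hD, LinearEquiv.apply_symm_apply]
      apply hi₃
      rw [map_zero, map_sub, ← k31, ← k32, hz₁, hz₂, hcr', sub_self]
    obtain ⟨w, hw⟩ := (Module.Flat.lTensor_exact B hex' _).1 h0
    have hew : (r₁.lTensor B w, r₂.lTensor B w) = (z₁, z₂) := by
      rw [← ke, hw, LinearEquiv.apply_symm_apply]
    refine ⟨w, sub_eq_zero.1 (hr' _ ?_ ?_)⟩
    · rw [map_sub, k1, (Prod.mk.inj hew).1, hz₁, sub_self]
    · rw [map_sub, k2, (Prod.mk.inj hew).2, hz₂, sub_self]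

end Alg

variable {X S X' S' : Scheme.{u}} {f : X ⟶ S} {g : S' ⟶ S} {g' : X' ⟶ X} {f' : X' ⟶ S'}

/-- Flat base change of sections, by the natural map. -/
theorem bijective_sections_flatBC (h : IsPullback g' f' f g) [QuasiCompact f] [QuasiSeparated f] [Flat g]
    {M : X.Modules} (hM : Coh.IsQCoh M) {U : S.Opens} (hU : IsAffineOpen U) {W : S'.Opens} (hW : IsAffineOpen W)
    (hle : W ≤ g ⁻¹ᵁ U) (hle' : f' ⁻¹ᵁ W ≤ g' ⁻¹ᵁ (f ⁻¹ᵁ U)) :
    letI : Algebra Γ(S, U) Γ(S', W) := (g.appLE U W hle).hom.toAlgebra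
    letI : Module Γ(S, U) Γ(M, f ⁻¹ᵁ U) := Module.compHom _ (f.app U).hom
    letI : Module Γ(S', W) Γ((Scheme.Modules.pullback g').obj M, f' ⁻¹ᵁ W) := Module.compHom _ (f'.app W).hom
    letI : Module Γ(S, U) Γ((Scheme.Modules.pullback g').obj M, f' ⁻¹ᵁ W) :=
      Module.compHom _ (algebraMap Γ(S, U) Γ(S', W))
    haveI : IsScalarTower Γ(S, U) Γ(S', W) Γ((Scheme.Modules.pullback g').obj M, f' ⁻¹ᵁ W) :=
      .of_algebraMap_smul fun _ _ => rfl
    ∀ l : Γ(M, f ⁻¹ᵁ U) →ₗ[Γ(S, U)] Γ((Scheme.Modules.pullback g').obj M, f' ⁻¹ᵁ W),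
      (∀ x, l x = pullSec g' M hle' x) → IsBaseChange Γ(S', W) l := by
  letI : Algebra Γ(S, U) Γ(S', W) := (g.appLE U W hle).hom.toAlgebra
  letI : Module Γ(S, U) Γ(M, f ⁻¹ᵁ U) := Module.compHom _ (f.app U).hom
  letI : Module Γ(S', W) Γ((Scheme.Modules.pullback g').obj M, f' ⁻¹ᵁ W) := Module.compHom _ (f'.app W).hom
  letI : Module Γ(S, U) Γ((Scheme.Modules.pullback g').obj M, f' ⁻¹ᵁ W) :=
    Module.compHom _ (algebraMap Γ(S, U) Γ(S', W))
  haveI : IsScalarTower Γ(S, U) Γ(S', W) Γ((Scheme.Modules.pullback g').obj M, f' ⁻¹ᵁ W) :=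
    .of_algebraMap_smul fun _ _ => rfl
  intro l hl
  let A := Γ(S, U)
  let B := Γ(S', W)
  haveI : Module.Flat A B := g.flat_appLE hU hW hle
  let P := (Scheme.Modules.pullback g').obj M
  let I := {V : X.Opens // V ≤ f ⁻¹ᵁ U}
  let up : I → X'.Opens := fun V => g' ⁻¹ᵁ V.1 ⊓ f' ⁻¹ᵁ W
  letI iA : ∀ V : I, Module A Γ(M, V.1) := fun V => Module.compHom _ (f.appLE U V.1 V.2).hom
  letI iB : ∀ V : I, Module B Γ(P, up V) := fun V => Module.compHom _ (f'.appLE W (up V) inf_le_right).hom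
  letI iA' : ∀ V : I, Module A Γ(P, up V) := fun V => Module.compHom _ (algebraMap A B)
  haveI iT : ∀ V : I, IsScalarTower A B Γ(P, up V) := fun V => .of_algebraMap_smul fun _ _ => rfl
  have hcomm : ∀ (V : I) (a : A), g'.appLE V.1 (up V) inf_le_left (f.appLE U V.1 V.2 a) =
      f'.appLE W (up V) inf_le_right (g.appLE U W hle a) := fun V a => by
    rw [← CommRingCat.comp_apply, ← CommRingCat.comp_apply, Scheme.Hom.appLE_comp_appLE,
      Scheme.Hom.appLE_comp_appLE]
    simp only [h.w]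
  let L : ∀ V : I, Γ(M, V.1) →ₗ[A] Γ(P, up V) := fun V =>
    { toFun := pullSec g' M inf_le_left
      map_add' := pullSec_add g' M inf_le_left
      map_smul' := fun a x => (pullSec_smul g' M inf_le_left _ x).trans
        (congrArg (· • pullSec g' M (inf_le_left : up V ≤ g' ⁻¹ᵁ V.1) x) (hcomm V a)) }
  let r : ∀ {V V' : I}, V'.1 ≤ V.1 → (Γ(M, V.1) →ₗ[A] Γ(M, V'.1)) := fun {V V'} hV =>
    { toFun := rs M hV
      map_add' := rs_add hV
      map_smul' := fun a x => (rs_smul hV (f.appLE U V.1 V.2 a) x).trans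
        (congrArg (· • rs M hV x) (congr($(f.appLE_map V.2 (homOfLE hV).op) a))) }
  have upmono : ∀ {V V' : I}, V'.1 ≤ V.1 → up V' ≤ up V := fun hV => inf_le_inf_right _ (g'.preimage_mono hV)
  let r' : ∀ {V V' : I}, V'.1 ≤ V.1 → (Γ(P, up V) →ₗ[B] Γ(P, up V')) := fun {V V'} hV =>
    { toFun := rs P (upmono hV)
      map_add' := rs_add (upmono hV)
      map_smul' := fun b x => (rs_smul (upmono hV) (f'.appLE W (up V) inf_le_right b) x).trans
        (congrArg (· • rs P (upmono hV) x) (congr($(f'.appLE_map inf_le_right (homOfLE (upmono hV)).op) b))) }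
  have nat : ∀ {V V' : I} (hV : V'.1 ≤ V.1) x, r' hV (L V x) = L V' (r hV x) := fun {V V'} hV x => by
    show rs P (upmono hV) (rs P inf_le_left
        (((Scheme.Modules.pullbackPushforwardAdjunction g').unit.app M).app V.1 x)) =
      rs P inf_le_left (((Scheme.Modules.pullbackPushforwardAdjunction g').unit.app M).app V'.1 (rs M hV x))
    refine ((rs_rs _ _ _).trans (rs_rs (g'.preimage_mono hV) _ _).symm).trans
      (congrArg (rs P inf_le_left) (app_rs ((Scheme.Modules.pullbackPushforwardAdjunction g').unit.app M) hV x).symm)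
  let T : ∀ V : I, B ⊗[A] Γ(M, V.1) →ₗ[B] Γ(P, up V) := fun V => (L V).liftBaseChange B
  -- affine pieces
  have haff : ∀ V : I, IsAffineOpen V.1 → Function.Bijective (T V) := by
    intro V hV
    have hUY : up V = g' ⁻¹ᵁ V.1 ⊓ f' ⁻¹ᵁ W := rfl
    have hup : IsAffineOpen (up V) := by
      haveI : IsAffine (V.1 : Scheme.{u}) := hV
      haveI : IsAffine (U : Scheme.{u}) := hU
      haveI : IsAffine (W : Scheme.{u}) := hW
      exact .of_isIso (Scheme.Hom.isPullback_resLE h hle V.2 hUY).isoPullback.hom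
    have hpo := (isIso_pushoutSection_iff h hle V.2 hUY).1
      (isIso_pushoutSection_of_isAffineOpen h hle V.2 hUY hU hW hV)
    letI : Algebra A Γ(X, V.1) := (f.appLE U V.1 V.2).hom.toAlgebra
    letI : Algebra B Γ(X', up V) := (f'.appLE W (up V) inf_le_right).hom.toAlgebra
    letI : Algebra A Γ(X', up V) :=
      ((f'.appLE W (up V) inf_le_right).hom.comp (algebraMap A B)).toAlgebra
    letI : Algebra Γ(X, V.1) Γ(X', up V) := (g'.appLE V.1 (up V) inf_le_left).hom.toAlgebra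
    haveI : IsScalarTower A B Γ(X', up V) := .of_algebraMap_eq' rfl
    haveI : IsScalarTower A Γ(X, V.1) Γ(X', up V) := .of_algebraMap_eq fun a => (hcomm V a).symm
    haveI : Algebra.IsPushout A B Γ(X, V.1) Γ(X', up V) := by
      rw [← CommRingCat.isPushout_iff_isPushout]
      exact hpo.flip
    haveI : IsScalarTower A Γ(X, V.1) Γ(M, V.1) := .of_algebraMap_smul fun _ _ => rfl
    haveI : IsScalarTower B Γ(X', up V) Γ(P, up V) := .of_algebraMap_smul fun _ _ => rfl
    letI : Module Γ(X, V.1) Γ(P, up V) := Module.compHom _ (g'.appLE V.1 (up V) inf_le_left).hom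
    haveI : IsScalarTower Γ(X, V.1) Γ(X', up V) Γ(P, up V) := .of_algebraMap_smul fun _ _ => rfl
    let l₀ : Γ(M, V.1) →ₗ[Γ(X, V.1)] Γ(P, up V) :=
      { toFun := pullSec g' M inf_le_left
        map_add' := pullSec_add g' M inf_le_left
        map_smul' := pullSec_smul g' M inf_le_left }
    exact (isBaseChange_of_isPushout l₀ (isBaseChange_pullback hV g' hup hM inf_le_left (fun _ => rfl) l₀
      fun _ => rfl) (L V) fun _ => rfl)
  -- injectivity for quasi-compact opens
  have hinj : ∀ V : I, IsCompact (V.1 : Set X) → Function.Injective (T V) := by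
    intro V hV
    obtain ⟨s, hs, hcov⟩ := isCompact_iff_finite_and_eq_biUnion_affineOpens.mp hV
    haveI : Finite s := hs
    let J : s → I := fun i => ⟨i.1.1, le_trans (hcov ▸ le_iSup₂ (f := fun (W : X.affineOpens) (_ : W ∈ s) => W.1) i.1 i.2) V.2⟩
    have hJ : ∀ i, (J i).1 ≤ V.1 := fun i =>
      hcov ▸ le_iSup₂ (f := fun (W : X.affineOpens) (_ : W ∈ s) => W.1) i.1 i.2
    refine injective_lift_of_family (L V) (fun i => L (J i)) (fun i => r (hJ i)) (fun i => r' (hJ i)) ?_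
      (fun i x => nat (hJ i) x) fun i => (haff (J i) i.1.2).1
    intro x hx
    refine eq_zero_of_locally V.1 x fun p hp => ?_
    rw [hcov] at hp
    obtain ⟨W₀, hW₀⟩ := Opens.mem_iSup.1 hp
    obtain ⟨hW₀s, hpW⟩ := Opens.mem_iSup.1 hW₀
    exact ⟨W₀.1, homOfLE (hJ ⟨W₀, hW₀s⟩), hpW, hx ⟨W₀, hW₀s⟩⟩
  -- the induction
  have hfU : IsCompact ((f ⁻¹ᵁ U : X.Opens) : Set X) := f.isCompact_preimage hU.isCompact
  have hqs : IsQuasiSeparated ((f ⁻¹ᵁ U : X.Opens) : Set X) := f.isQuasiSeparated_preimage hU.isQuasiSeparated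
  have hbij : ∀ (t : ℕ) (O : Fin t → I), (∀ i, IsAffineOpen (O i).1) →
      ∀ V : I, V.1 = ⨆ i, (O i).1 → Function.Bijective (T V) := by
    intro t
    induction t with
    | zero =>
      intro O _ V hV
      refine haff V ?_
      rw [hV, iSup_of_empty]
      exact isAffineOpen_bot X
    | succ t ih =>
      intro O hO V hV
      let V₁ : I := O 0
      let V₂ : I := ⟨⨆ i : Fin t, (O i.succ).1, iSup_le fun i => (O i.succ).2⟩
      let V₃ : I := ⟨V₁.1 ⊓ V₂.1, inf_le_left.trans V₁.2⟩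
      have hV' : V.1 = V₁.1 ⊔ V₂.1 := hV.trans (le_antisymm (iSup_le fun i => Fin.cases le_sup_left
        (fun j => le_sup_of_le_right (le_iSup (fun i : Fin t => (O i.succ).1) j)) i)
        (sup_le (le_iSup (fun i => (O i).1) 0) (iSup_le fun i => le_iSup (fun i => (O i).1) i.succ)))
      have h₁ : V₁.1 ≤ V.1 := hV' ▸ le_sup_left
      have h₂ : V₂.1 ≤ V.1 := hV' ▸ le_sup_right
      have h₃₁ : V₃.1 ≤ V₁.1 := inf_le_left
      have h₃₂ : V₃.1 ≤ V₂.1 := inf_le_right
      refine bijective_lift_of_two (L V) (L V₁) (L V₂) (L V₃) (r h₁) (r h₂) (r h₃₁) (r h₃₂)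
        (r' h₁) (r' h₂) (r' h₃₁) (r' h₃₂) ?_ ?_ ?_ ?_ ?_ (nat h₁) (nat h₂) (nat h₃₁) (nat h₃₂)
        (haff V₁ (hO 0)) (ih _ (fun i => hO i.succ) V₂ rfl) (hinj V₃ ?_)
      · intro x hx₁ hx₂
        refine eq_zero_of_locally V.1 x fun p hp => ?_
        rw [hV'] at hp
        rcases hp with hp | hp
        · exact ⟨V₁.1, homOfLE h₁, hp, hx₁⟩
        · exact ⟨V₂.1, homOfLE h₂, hp, hx₂⟩
      · intro a b hab
        exact exists_glue_sup (G := M) hV' h₁ h₂ a b hab
      · exact fun x => (rs_rs h₁ h₃₁ x).trans (rs_rs h₂ h₃₂ x).symm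
      · intro y hy₁ hy₂
        refine eq_zero_of_locally (up V) y fun p hp => ?_
        have hp1 : p ∈ g' ⁻¹ᵁ (V₁.1 ⊔ V₂.1) := hV' ▸ hp.1
        rcases hp1 with hp' | hp'
        · exact ⟨up V₁, homOfLE (upmono h₁), ⟨hp', hp.2⟩, hy₁⟩
        · exact ⟨up V₂, homOfLE (upmono h₂), ⟨hp', hp.2⟩, hy₂⟩
      · exact fun y => (rs_rs (upmono h₁) (upmono h₃₁) y).trans (rs_rs (upmono h₂) (upmono h₃₂) y).symm
      · show IsCompact ((V₁.1 : Set X) ∩ (V₂.1 : Set X))
        rw [Opens.coe_iSup, Set.inter_iUnion]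
        exact isCompact_iUnion fun i => hqs _ _ V₁.2 V₁.1.2 (hO 0).isCompact (O i.succ).2 (O i.succ).1.2
          (hO i.succ).isCompact
  obtain ⟨s, hs, hcov⟩ := isCompact_iff_finite_and_eq_biUnion_affineOpens.mp hfU
  have hmem : ∀ i : hs.toFinset, i.1.1 ≤ f ⁻¹ᵁ U := fun i =>
    hcov ▸ le_iSup₂ (f := fun (W : X.affineOpens) (_ : W ∈ s) => W.1) i.1 (hs.mem_toFinset.1 i.2)
  let O : Fin hs.toFinset.card → I := fun i => ⟨_, hmem (hs.toFinset.equivFin.symm i)⟩
  have hO : (⨆ i, (O i).1) = f ⁻¹ᵁ U := by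
    refine le_antisymm (iSup_le fun i => (O i).2) ?_
    refine hcov.le.trans ?_
    refine iSup₂_le fun V hV => le_trans ?_ (le_iSup (fun i => (O i).1) (hs.toFinset.equivFin ⟨V, hs.mem_toFinset.2 hV⟩))
    simp [O]
  let V : I := ⟨f ⁻¹ᵁ U, le_rfl⟩
  have hT := hbij _ O (fun i => (hs.toFinset.equivFin.symm i).1.2) V hO.symm
  have e : up V = f' ⁻¹ᵁ W := inf_eq_right.2 hle'
  let q : Γ(P, up V) ≃ₗ[B] Γ(P, f' ⁻¹ᵁ W) :=
    { toFun := rs P e.ge
      invFun := rs P e.le
      map_add' := rs_add e.ge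
      map_smul' := fun b x => (rs_smul e.ge (f'.appLE W (up V) inf_le_right b) x).trans (congrArg (· • rs P e.ge x)
        ((congr($(f'.appLE_map inf_le_right (homOfLE e.ge).op) b)).trans congr($(f'.appLE_eq_app) b)))
      left_inv := fun x => (rs_rs e.ge e.le x).trans (rs_self _ x)
      right_inv := fun x => (rs_rs e.le e.ge x).trans (rs_self _ x) }
  have hA : ∀ (a : A) (x : Γ(M, f ⁻¹ᵁ U)),
      (show Γ(M, f ⁻¹ᵁ U) from (f.appLE U V.1 V.2 a) • x) = f.app U a • x := fun a x => by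
    rw [Scheme.Hom.appLE_eq_app]
  let p : Γ(M, f ⁻¹ᵁ U) →ₗ[A] Γ(M, V.1) :=
    { toFun := fun x => x, map_add' := fun _ _ => rfl, map_smul' := fun a x => (hA a x).symm }
  refine IsBaseChange.of_equiv ((TensorProduct.AlgebraTensorModule.congr (LinearEquiv.refl B B)
    (LinearEquiv.ofBijective p Function.bijective_id)).trans ((LinearEquiv.ofBijective (T V) hT).trans q)) fun x => ?_
  show q (T V ((1 : B) ⊗ₜ[A] x)) = l x
  rw [hl, show T V ((1 : B) ⊗ₜ[A] x) = L V x from (LinearMap.liftBaseChange_tmul B _ _ _).trans (one_smul _ _)]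
  exact rs_rs _ e.ge _

end Groth.Agent.CohPullX
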