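import Groth.Agent.CohPullX.KerBC
import Groth.Agent.CohPullX.FlatSections

/-!
# Sections commute with a base change when the Čech differential has flat cokernel
-/

set_option autoImplicit false
set_option backward.isDefEq.respectTransparency false
set_option backward.isDefEq.respectTransparency.types false
set_option linter.style.haveILetI false
set_option maxHeartbeats 1000000

universe u

open CategoryTheory CategoryTheory.Limits AlgebraicGeometry TopologicalSpace Opposite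
open scoped TensorProduct

namespace Groth.Agent.CohPullX

open Groth.Agent.QCoh

variable {X S X' S' : Scheme.{u}} {f : X ⟶ S} {g : S' ⟶ S} {g' : X' ⟶ X} {f' : X' ⟶ S'}

theorem exists_glue_family {M : X.Modules} {V : X.Opens} {ι : Type u} (O : ι → X.Opens)
    (hle : ∀ i, O i ≤ V) (hcov : V ≤ ⨆ i, O i) (x : ∀ i, Γ(M, O i))
    (hx : ∀ i j, rs M (inf_le_left : O i ⊓ O j ≤ O i) (x i) = rs M (inf_le_right : O i ⊓ O j ≤ O j) (x j)) :
    ∃ z : Γ(M, V), ∀ i, rs M (hle i) z = x i := by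
  obtain ⟨z, hz, -⟩ := TopCat.Sheaf.existsUnique_gluing' ⟨M.presheaf, M.isSheaf⟩ O V
    (fun i => homOfLE (hle i)) hcov x fun i j => hx i j
  exact ⟨z, hz⟩

/-- Sections commute with base change if the differential of a finite affine covering has flat cokernel. -/
theorem bijective_sections_kerBC (h : IsPullback g' f' f g)
    {M : X.Modules} (hM : Coh.IsQCoh M) {U : S.Opens} (hU : IsAffineOpen U) {W : S'.Opens} (hW : IsAffineOpen W)
    (hle : W ≤ g ⁻¹ᵁ U) (hle' : f' ⁻¹ᵁ W ≤ g' ⁻¹ᵁ (f ⁻¹ᵁ U))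
    {ι₀ ι₁ : Type u} [Finite ι₀] [Finite ι₁]
    (O₀ : ι₀ → {V : X.Opens // V ≤ f ⁻¹ᵁ U}) (hO₀ : ∀ i, IsAffineOpen (O₀ i).1)
    (O₁ : ι₁ → {V : X.Opens // V ≤ f ⁻¹ᵁ U}) (hO₁ : ∀ i, IsAffineOpen (O₁ i).1)
    (α β : ι₁ → ι₀) (hα : ∀ s, (O₁ s).1 ≤ (O₀ (α s)).1) (hβ : ∀ s, (O₁ s).1 ≤ (O₀ (β s)).1)
    (hcov : f ⁻¹ᵁ U ≤ ⨆ i, (O₀ i).1)
    (hpair : ∀ i j, ∃ s, α s = i ∧ β s = j ∧ (O₀ i).1 ⊓ (O₀ j).1 ≤ (O₁ s).1)
    (hflat : letI : ∀ V : {V : X.Opens // V ≤ f ⁻¹ᵁ U}, Module Γ(S, U) Γ(M, V.1) :=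
        fun V => Module.compHom _ (f.appLE U V.1 V.2).hom
      Module.Flat Γ(S, U) (∀ s, Γ(M, (O₁ s).1)) ∧
        ∀ δ : (∀ i, Γ(M, (O₀ i).1)) →ₗ[Γ(S, U)] (∀ s, Γ(M, (O₁ s).1)),
          (∀ x s, δ x s = rs M (hα s) (x (α s)) - rs M (hβ s) (x (β s))) →
          Module.Flat Γ(S, U) ((∀ s, Γ(M, (O₁ s).1)) ⧸ LinearMap.range δ)) :
    letI : Algebra Γ(S, U) Γ(S', W) := (g.appLE U W hle).hom.toAlgebra
    letI : Module Γ(S, U) Γ(M, f ⁻¹ᵁ U) := Module.compHom _ (f.app U).hom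
    letI : Module Γ(S', W) Γ((Scheme.Modules.pullback g').obj M, f' ⁻¹ᵁ W) := Module.compHom _ (f'.app W).hom
    letI : Module Γ(S, U) Γ((Scheme.Modules.pullback g').obj M, f' ⁻¹ᵁ W) :=
      Module.compHom _ (algebraMap Γ(S, U) Γ(S', W))
    haveI : IsScalarTower Γ(S, U) Γ(S', W) Γ((Scheme.Modules.pullback g').obj M, f' ⁻¹ᵁ W) :=
      .of_algebraMap_smul fun _ _ => rfl
    ∀ l : Γ(M, f ⁻¹ᵁ U) →ₗ[Γ(S, U)] Γ((Scheme.Modules.pullback g').obj M, f' ⁻¹ᵁ W),
      (∀ x, l x = pullSec g' M hle' x) → IsBaseChange Γ(S', W) l := by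
  letI : Algebra Γ(S, U) Γ(S', W) := (g.appLE U W hle).hom.toAlgebra
  letI : Module Γ(S, U) Γ(M, f ⁻¹ᵁ U) := Module.compHom _ (f.app U).hom
  letI : Module Γ(S', W) Γ((Scheme.Modules.pullback g').obj M, f' ⁻¹ᵁ W) := Module.compHom _ (f'.app W).hom
  letI : Module Γ(S, U) Γ((Scheme.Modules.pullback g').obj M, f' ⁻¹ᵁ W) :=
    Module.compHom _ (algebraMap Γ(S, U) Γ(S', W))
  haveI : IsScalarTower Γ(S, U) Γ(S', W) Γ((Scheme.Modules.pullback g').obj M, f' ⁻¹ᵁ W) :=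
    .of_algebraMap_smul fun _ _ => rfl
  intro l hl
  let A := Γ(S, U)
  let B := Γ(S', W)
  let P := (Scheme.Modules.pullback g').obj M
  let I := {V : X.Opens // V ≤ f ⁻¹ᵁ U}
  let up : I → X'.Opens := fun V => g' ⁻¹ᵁ V.1 ⊓ f' ⁻¹ᵁ W
  letI iA : ∀ V : I, Module A Γ(M, V.1) := fun V => Module.compHom _ (f.appLE U V.1 V.2).hom
  letI iB : ∀ V : I, Module B Γ(P, up V) := fun V => Module.compHom _ (f'.appLE W (up V) inf_le_right).hom
  letI iA' : ∀ V : I, Module A Γ(P, up V) := fun V => Module.compHom _ (algebraMap A B)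
  haveI iT : ∀ V : I, IsScalarTower A B Γ(P, up V) := fun V => .of_algebraMap_smul fun _ _ => rfl
  have hcomm : ∀ (V : I) (a : A), g'.appLE V.1 (up V) inf_le_left (f.appLE U V.1 V.2 a) =
      f'.appLE W (up V) inf_le_right (g.appLE U W hle a) := fun V a => by
    rw [← CommRingCat.comp_apply, ← CommRingCat.comp_apply, Scheme.Hom.appLE_comp_appLE,
      Scheme.Hom.appLE_comp_appLE]
    simp only [h.w]
  let L : ∀ V : I, Γ(M, V.1) →ₗ[A] Γ(P, up V) := fun V =>
    { toFun := pullSec g' M inf_le_left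
      map_add' := pullSec_add g' M inf_le_left
      map_smul' := fun a x => (pullSec_smul g' M inf_le_left _ x).trans
        (congrArg (· • pullSec g' M (inf_le_left : up V ≤ g' ⁻¹ᵁ V.1) x) (hcomm V a)) }
  let r : ∀ {V V' : I}, V'.1 ≤ V.1 → (Γ(M, V.1) →ₗ[A] Γ(M, V'.1)) := fun {V V'} hV =>
    { toFun := rs M hV
      map_add' := rs_add hV
      map_smul' := fun a x => (rs_smul hV (f.appLE U V.1 V.2 a) x).trans
        (congrArg (· • rs M hV x) (congr($(f.appLE_map V.2 (homOfLE hV).op) a))) }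
  have upmono : ∀ {V V' : I}, V'.1 ≤ V.1 → up V' ≤ up V := fun hV => inf_le_inf_right _ (g'.preimage_mono hV)
  let r' : ∀ {V V' : I}, V'.1 ≤ V.1 → (Γ(P, up V) →ₗ[B] Γ(P, up V')) := fun {V V'} hV =>
    { toFun := rs P (upmono hV)
      map_add' := rs_add (upmono hV)
      map_smul' := fun b x => (rs_smul (upmono hV) (f'.appLE W (up V) inf_le_right b) x).trans
        (congrArg (· • rs P (upmono hV) x) (congr($(f'.appLE_map inf_le_right (homOfLE (upmono hV)).op) b))) }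
  have nat : ∀ {V V' : I} (hV : V'.1 ≤ V.1) x, r' hV (L V x) = L V' (r hV x) := fun {V V'} hV x => by
    show rs P (upmono hV) (rs P inf_le_left
        (((Scheme.Modules.pullbackPushforwardAdjunction g').unit.app M).app V.1 x)) =
      rs P inf_le_left (((Scheme.Modules.pullbackPushforwardAdjunction g').unit.app M).app V'.1 (rs M hV x))
    refine ((rs_rs _ _ _).trans (rs_rs (g'.preimage_mono hV) _ _).symm).trans
      (congrArg (rs P inf_le_left) (app_rs ((Scheme.Modules.pullbackPushforwardAdjunction g').unit.app M) hV x).symm)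
  let T : ∀ V : I, B ⊗[A] Γ(M, V.1) →ₗ[B] Γ(P, up V) := fun V => (L V).liftBaseChange B
  -- affine pieces
  have haff : ∀ V : I, IsAffineOpen V.1 → Function.Bijective (T V) := by
    intro V hV
    have hUY : up V = g' ⁻¹ᵁ V.1 ⊓ f' ⁻¹ᵁ W := rfl
    have hup : IsAffineOpen (up V) := by
      haveI : IsAffine (V.1 : Scheme.{u}) := hV
      haveI : IsAffine (U : Scheme.{u}) := hU
      haveI : IsAffine (W : Scheme.{u}) := hW
      exact .of_isIso (Scheme.Hom.isPullback_resLE h hle V.2 hUY).isoPullback.hom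
    have hpo := (isIso_pushoutSection_iff h hle V.2 hUY).1
      (isIso_pushoutSection_of_isAffineOpen h hle V.2 hUY hU hW hV)
    letI : Algebra A Γ(X, V.1) := (f.appLE U V.1 V.2).hom.toAlgebra
    letI : Algebra B Γ(X', up V) := (f'.appLE W (up V) inf_le_right).hom.toAlgebra
    letI : Algebra A Γ(X', up V) :=
      ((f'.appLE W (up V) inf_le_right).hom.comp (algebraMap A B)).toAlgebra
    letI : Algebra Γ(X, V.1) Γ(X', up V) := (g'.appLE V.1 (up V) inf_le_left).hom.toAlgebra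
    haveI : IsScalarTower A B Γ(X', up V) := .of_algebraMap_eq' rfl
    haveI : IsScalarTower A Γ(X, V.1) Γ(X', up V) := .of_algebraMap_eq fun a => (hcomm V a).symm
    haveI : Algebra.IsPushout A B Γ(X, V.1) Γ(X', up V) := by
      rw [← CommRingCat.isPushout_iff_isPushout]
      exact hpo.flip
    haveI : IsScalarTower A Γ(X, V.1) Γ(M, V.1) := .of_algebraMap_smul fun _ _ => rfl
    haveI : IsScalarTower B Γ(X', up V) Γ(P, up V) := .of_algebraMap_smul fun _ _ => rfl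
    letI : Module Γ(X, V.1) Γ(P, up V) := Module.compHom _ (g'.appLE V.1 (up V) inf_le_left).hom
    haveI : IsScalarTower Γ(X, V.1) Γ(X', up V) Γ(P, up V) := .of_algebraMap_smul fun _ _ => rfl
    let l₀ : Γ(M, V.1) →ₗ[Γ(X, V.1)] Γ(P, up V) :=
      { toFun := pullSec g' M inf_le_left
        map_add' := pullSec_add g' M inf_le_left
        map_smul' := pullSec_smul g' M inf_le_left }
    exact (isBaseChange_of_isPushout l₀ (isBaseChange_pullback hV g' hup hM inf_le_left (fun _ => rfl) l₀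
      fun _ => rfl) (L V) fun _ => rfl)
  classical
  let V : I := ⟨f ⁻¹ᵁ U, le_rfl⟩
  have hVle : ∀ i, (O₀ i).1 ≤ V.1 := fun i => (O₀ i).2
  let R : Γ(M, V.1) →ₗ[A] (∀ i, Γ(M, (O₀ i).1)) := LinearMap.pi fun i => r (hVle i)
  let δ : (∀ i, Γ(M, (O₀ i).1)) →ₗ[A] (∀ s, Γ(M, (O₁ s).1)) :=
    LinearMap.pi fun s => (r (hα s)).comp (LinearMap.proj (α s)) - (r (hβ s)).comp (LinearMap.proj (β s))
  let R' : Γ(P, up V) →ₗ[B] (∀ i, Γ(P, up (O₀ i))) := LinearMap.pi fun i => r' (hVle i)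
  let δ' : (∀ i, Γ(P, up (O₀ i))) →ₗ[B] (∀ s, Γ(P, up (O₁ s))) :=
    LinearMap.pi fun s => (r' (hα s)).comp (LinearMap.proj (α s)) - (r' (hβ s)).comp (LinearMap.proj (β s))
  haveI : Module.Flat A (∀ s, Γ(M, (O₁ s).1)) := hflat.1
  haveI := hflat.2 δ fun x s => rfl
  have hR : Function.Injective R := (injective_iff_map_eq_zero _).2 fun x hx =>
    eq_zero_of_locally V.1 x fun p hp => by
      obtain ⟨i, hi⟩ := Opens.mem_iSup.1 (hcov hp)
      exact ⟨(O₀ i).1, homOfLE (hVle i), hi, congrFun hx i⟩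
  have hex : Function.Exact R δ := fun x => by
    constructor
    · intro hx
      obtain ⟨z, hz⟩ := exists_glue_family (fun i => (O₀ i).1) hVle hcov x fun i j => by
        obtain ⟨s, rfl, rfl, hs⟩ := hpair i j
        have h0 : rs M (hα s) (x (α s)) = rs M (hβ s) (x (β s)) := sub_eq_zero.1 (congrFun hx s)
        have h1 := congrArg (rs M hs) h0
        rw [rs_rs, rs_rs] at h1
        exact h1
      exact ⟨z, funext hz⟩
    · rintro ⟨z, rfl⟩
      funext s
      exact sub_eq_zero.2 ((rs_rs _ _ _).trans (rs_rs (hVle (β s)) (hβ s) z).symm)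
  obtain ⟨hinj, hexB⟩ := exact_lTensor_of_flat_coker R δ hR hex B
  have hR' : Function.Injective R' := (injective_iff_map_eq_zero _).2 fun y hy =>
    eq_zero_of_locally (up V) y fun p hp => by
      obtain ⟨i, hi⟩ := Opens.mem_iSup.1 (hcov hp.1)
      exact ⟨up (O₀ i), homOfLE (upmono (hVle i)), ⟨hi, hp.2⟩, congrFun hy i⟩
  have hRδ' : ∀ y, δ' (R' y) = 0 := fun y => funext fun s =>
    sub_eq_zero.2 ((rs_rs _ _ _).trans (rs_rs (upmono (hVle (β s))) (upmono (hβ s)) y).symm)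
  let l₀ : (∀ i, Γ(M, (O₀ i).1)) →ₗ[A] (∀ i, Γ(P, up (O₀ i))) :=
    LinearMap.pi fun i => (L (O₀ i)).comp (LinearMap.proj i)
  let l₁ : (∀ s, Γ(M, (O₁ s).1)) →ₗ[A] (∀ s, Γ(P, up (O₁ s))) :=
    LinearMap.pi fun s => (L (O₁ s)).comp (LinearMap.proj s)
  have hpi : ∀ {κ : Type u} [Finite κ] (O : κ → I), (∀ i, IsAffineOpen (O i).1) →
      Function.Bijective ((LinearMap.pi fun i => (L (O i)).comp (LinearMap.proj i)).liftBaseChange B) := by
    intro κ _ O hO
    haveI := Fintype.ofFinite κ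
    let e : B ⊗[A] (∀ i, Γ(M, (O i).1)) ≃ₗ[B] (∀ i, Γ(P, up (O i))) :=
      (TensorProduct.piRight A B B fun i => Γ(M, (O i).1)).trans
        (LinearEquiv.piCongrRight fun i => LinearEquiv.ofBijective (T (O i)) (haff _ (hO i)))
    have he : (LinearMap.pi fun i => (L (O i)).comp (LinearMap.proj i)).liftBaseChange B = e.toLinearMap := by
      ext i x j
      simp [e, T]
    rw [he]
    exact e.bijective
  have hT : Function.Bijective (T V) := bijective_lift_of_kerExact (L V) l₀ l₁ R δ R' δ' hinj hexB hR' hRδ'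
    (fun x => funext fun i => nat (hVle i) x)
    (fun x => funext fun s => by
      show r' (hα s) (L (O₀ (α s)) (x (α s))) - r' (hβ s) (L (O₀ (β s)) (x (β s))) =
        L (O₁ s) (r (hα s) (x (α s)) - r (hβ s) (x (β s)))
      rw [map_sub, nat (hα s), nat (hβ s)])
    (hpi O₀ hO₀) (hpi O₁ hO₁).1
  have e : up V = f' ⁻¹ᵁ W := inf_eq_right.2 hle'
  let q : Γ(P, up V) ≃ₗ[B] Γ(P, f' ⁻¹ᵁ W) :=
    { toFun := rs P e.ge
      invFun := rs P e.le
      map_add' := rs_add e.ge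
      map_smul' := fun b x => (rs_smul e.ge (f'.appLE W (up V) inf_le_right b) x).trans (congrArg (· • rs P e.ge x)
        ((congr($(f'.appLE_map inf_le_right (homOfLE e.ge).op) b)).trans congr($(f'.appLE_eq_app) b)))
      left_inv := fun x => (rs_rs e.ge e.le x).trans (rs_self _ x)
      right_inv := fun x => (rs_rs e.le e.ge x).trans (rs_self _ x) }
  have hA : ∀ (a : A) (x : Γ(M, f ⁻¹ᵁ U)),
      (show Γ(M, f ⁻¹ᵁ U) from (f.appLE U V.1 V.2 a) • x) = f.app U a • x := fun a x => by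
    rw [Scheme.Hom.appLE_eq_app]
  let p : Γ(M, f ⁻¹ᵁ U) →ₗ[A] Γ(M, V.1) :=
    { toFun := fun x => x, map_add' := fun _ _ => rfl, map_smul' := fun a x => (hA a x).symm }
  refine IsBaseChange.of_equiv ((TensorProduct.AlgebraTensorModule.congr (LinearEquiv.refl B B)
    (LinearEquiv.ofBijective p Function.bijective_id)).trans ((LinearEquiv.ofBijective (T V) hT).trans q)) fun x => ?_
  show q (T V ((1 : B) ⊗ₜ[A] x)) = l x
  rw [hl, show T V ((1 : B) ⊗ₜ[A] x) = L V x from (LinearMap.liftBaseChange_tmul B _ _ _).trans (one_smul _ _)]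
  exact rs_rs _ e.ge _



/-- If the sections of a fibre are spanned by pulled back sections, kernels lift. -/
theorem ker_lTensor_of_surjective (h : IsPullback g' f' f g)
    {M : X.Modules} (hM : Coh.IsQCoh M) {U : S.Opens} (hU : IsAffineOpen U) {W : S'.Opens} (hW : IsAffineOpen W)
    (hle : W ≤ g ⁻¹ᵁ U) (hle' : f' ⁻¹ᵁ W ≤ g' ⁻¹ᵁ (f ⁻¹ᵁ U))
    {ι₀ ι₁ : Type u} [Finite ι₀] [Finite ι₁]
    (O₀ : ι₀ → {V : X.Opens // V ≤ f ⁻¹ᵁ U}) (hO₀ : ∀ i, IsAffineOpen (O₀ i).1)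
    (O₁ : ι₁ → {V : X.Opens // V ≤ f ⁻¹ᵁ U})
    (α β : ι₁ → ι₀) (hα : ∀ s, (O₁ s).1 ≤ (O₀ (α s)).1) (hβ : ∀ s, (O₁ s).1 ≤ (O₀ (β s)).1)
    (hcov : f ⁻¹ᵁ U ≤ ⨆ i, (O₀ i).1)
    (hpair : ∀ i j, ∃ s, α s = i ∧ β s = j ∧ (O₀ i).1 ⊓ (O₀ j).1 ≤ (O₁ s).1) :
    letI : Algebra Γ(S, U) Γ(S', W) := (g.appLE U W hle).hom.toAlgebra
    letI : Module Γ(S, U) Γ(M, f ⁻¹ᵁ U) := Module.compHom _ (f.app U).hom
    letI : Module Γ(S', W) Γ((Scheme.Modules.pullback g').obj M, f' ⁻¹ᵁ W) := Module.compHom _ (f'.app W).hom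
    letI : ∀ V : {V : X.Opens // V ≤ f ⁻¹ᵁ U}, Module Γ(S, U) Γ(M, V.1) :=
      fun V => Module.compHom _ (f.appLE U V.1 V.2).hom
    (∀ y : Γ((Scheme.Modules.pullback g').obj M, f' ⁻¹ᵁ W),
      ∃ (n : ℕ) (b : Fin n → Γ(S', W)) (x : Fin n → Γ(M, f ⁻¹ᵁ U)), ∑ i, b i • pullSec g' M hle' (x i) = y) →
    ∀ (R : Γ(M, f ⁻¹ᵁ U) →ₗ[Γ(S, U)] (∀ i, Γ(M, (O₀ i).1))), (∀ x i, R x i = rs M (O₀ i).2 x) →
    ∀ (δ : (∀ i, Γ(M, (O₀ i).1)) →ₗ[Γ(S, U)] (∀ s, Γ(M, (O₁ s).1))),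
      (∀ x s, δ x s = rs M (hα s) (x (α s)) - rs M (hβ s) (x (β s))) →
    ∀ z, δ.lTensor Γ(S', W) z = 0 → ∃ w, R.lTensor Γ(S', W) w = z := by
  letI : Algebra Γ(S, U) Γ(S', W) := (g.appLE U W hle).hom.toAlgebra
  letI : Module Γ(S, U) Γ(M, f ⁻¹ᵁ U) := Module.compHom _ (f.app U).hom
  letI : Module Γ(S', W) Γ((Scheme.Modules.pullback g').obj M, f' ⁻¹ᵁ W) := Module.compHom _ (f'.app W).hom
  intro hspan Rg hRg δg hδg z hz
  let A := Γ(S, U)
  let B := Γ(S', W)
  let P := (Scheme.Modules.pullback g').obj M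
  let I := {V : X.Opens // V ≤ f ⁻¹ᵁ U}
  let up : I → X'.Opens := fun V => g' ⁻¹ᵁ V.1 ⊓ f' ⁻¹ᵁ W
  letI iA : ∀ V : I, Module A Γ(M, V.1) := fun V => Module.compHom _ (f.appLE U V.1 V.2).hom
  letI iB : ∀ V : I, Module B Γ(P, up V) := fun V => Module.compHom _ (f'.appLE W (up V) inf_le_right).hom
  letI iA' : ∀ V : I, Module A Γ(P, up V) := fun V => Module.compHom _ (algebraMap A B)
  haveI iT : ∀ V : I, IsScalarTower A B Γ(P, up V) := fun V => .of_algebraMap_smul fun _ _ => rfl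
  have hcomm : ∀ (V : I) (a : A), g'.appLE V.1 (up V) inf_le_left (f.appLE U V.1 V.2 a) =
      f'.appLE W (up V) inf_le_right (g.appLE U W hle a) := fun V a => by
    rw [← CommRingCat.comp_apply, ← CommRingCat.comp_apply, Scheme.Hom.appLE_comp_appLE,
      Scheme.Hom.appLE_comp_appLE]
    simp only [h.w]
  let L : ∀ V : I, Γ(M, V.1) →ₗ[A] Γ(P, up V) := fun V =>
    { toFun := pullSec g' M inf_le_left
      map_add' := pullSec_add g' M inf_le_left
      map_smul' := fun a x => (pullSec_smul g' M inf_le_left _ x).trans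
        (congrArg (· • pullSec g' M (inf_le_left : up V ≤ g' ⁻¹ᵁ V.1) x) (hcomm V a)) }
  let r : ∀ {V V' : I}, V'.1 ≤ V.1 → (Γ(M, V.1) →ₗ[A] Γ(M, V'.1)) := fun {V V'} hV =>
    { toFun := rs M hV
      map_add' := rs_add hV
      map_smul' := fun a x => (rs_smul hV (f.appLE U V.1 V.2 a) x).trans
        (congrArg (· • rs M hV x) (congr($(f.appLE_map V.2 (homOfLE hV).op) a))) }
  have upmono : ∀ {V V' : I}, V'.1 ≤ V.1 → up V' ≤ up V := fun hV => inf_le_inf_right _ (g'.preimage_mono hV)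
  let r' : ∀ {V V' : I}, V'.1 ≤ V.1 → (Γ(P, up V) →ₗ[B] Γ(P, up V')) := fun {V V'} hV =>
    { toFun := rs P (upmono hV)
      map_add' := rs_add (upmono hV)
      map_smul' := fun b x => (rs_smul (upmono hV) (f'.appLE W (up V) inf_le_right b) x).trans
        (congrArg (· • rs P (upmono hV) x) (congr($(f'.appLE_map inf_le_right (homOfLE (upmono hV)).op) b))) }
  have nat : ∀ {V V' : I} (hV : V'.1 ≤ V.1) x, r' hV (L V x) = L V' (r hV x) := fun {V V'} hV x => by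
    show rs P (upmono hV) (rs P inf_le_left
        (((Scheme.Modules.pullbackPushforwardAdjunction g').unit.app M).app V.1 x)) =
      rs P inf_le_left (((Scheme.Modules.pullbackPushforwardAdjunction g').unit.app M).app V'.1 (rs M hV x))
    refine ((rs_rs _ _ _).trans (rs_rs (g'.preimage_mono hV) _ _).symm).trans
      (congrArg (rs P inf_le_left) (app_rs ((Scheme.Modules.pullbackPushforwardAdjunction g').unit.app M) hV x).symm)
  let T : ∀ V : I, B ⊗[A] Γ(M, V.1) →ₗ[B] Γ(P, up V) := fun V => (L V).liftBaseChange B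
  -- affine pieces
  have haff : ∀ V : I, IsAffineOpen V.1 → Function.Bijective (T V) := by
    intro V hV
    have hUY : up V = g' ⁻¹ᵁ V.1 ⊓ f' ⁻¹ᵁ W := rfl
    have hup : IsAffineOpen (up V) := by
      haveI : IsAffine (V.1 : Scheme.{u}) := hV
      haveI : IsAffine (U : Scheme.{u}) := hU
      haveI : IsAffine (W : Scheme.{u}) := hW
      exact .of_isIso (Scheme.Hom.isPullback_resLE h hle V.2 hUY).isoPullback.hom
    have hpo := (isIso_pushoutSection_iff h hle V.2 hUY).1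
      (isIso_pushoutSection_of_isAffineOpen h hle V.2 hUY hU hW hV)
    letI : Algebra A Γ(X, V.1) := (f.appLE U V.1 V.2).hom.toAlgebra
    letI : Algebra B Γ(X', up V) := (f'.appLE W (up V) inf_le_right).hom.toAlgebra
    letI : Algebra A Γ(X', up V) :=
      ((f'.appLE W (up V) inf_le_right).hom.comp (algebraMap A B)).toAlgebra
    letI : Algebra Γ(X, V.1) Γ(X', up V) := (g'.appLE V.1 (up V) inf_le_left).hom.toAlgebra
    haveI : IsScalarTower A B Γ(X', up V) := .of_algebraMap_eq' rfl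
    haveI : IsScalarTower A Γ(X, V.1) Γ(X', up V) := .of_algebraMap_eq fun a => (hcomm V a).symm
    haveI : Algebra.IsPushout A B Γ(X, V.1) Γ(X', up V) := by
      rw [← CommRingCat.isPushout_iff_isPushout]
      exact hpo.flip
    haveI : IsScalarTower A Γ(X, V.1) Γ(M, V.1) := .of_algebraMap_smul fun _ _ => rfl
    haveI : IsScalarTower B Γ(X', up V) Γ(P, up V) := .of_algebraMap_smul fun _ _ => rfl
    letI : Module Γ(X, V.1) Γ(P, up V) := Module.compHom _ (g'.appLE V.1 (up V) inf_le_left).hom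
    haveI : IsScalarTower Γ(X, V.1) Γ(X', up V) Γ(P, up V) := .of_algebraMap_smul fun _ _ => rfl
    let l₀ : Γ(M, V.1) →ₗ[Γ(X, V.1)] Γ(P, up V) :=
      { toFun := pullSec g' M inf_le_left
        map_add' := pullSec_add g' M inf_le_left
        map_smul' := pullSec_smul g' M inf_le_left }
    exact (isBaseChange_of_isPushout l₀ (isBaseChange_pullback hV g' hup hM inf_le_left (fun _ => rfl) l₀
      fun _ => rfl) (L V) fun _ => rfl)
  classical
  let V : I := ⟨f ⁻¹ᵁ U, le_rfl⟩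
  have hVle : ∀ i, (O₀ i).1 ≤ V.1 := fun i => (O₀ i).2
  let R : Γ(M, V.1) →ₗ[A] (∀ i, Γ(M, (O₀ i).1)) := LinearMap.pi fun i => r (hVle i)
  let δ : (∀ i, Γ(M, (O₀ i).1)) →ₗ[A] (∀ s, Γ(M, (O₁ s).1)) :=
    LinearMap.pi fun s => (r (hα s)).comp (LinearMap.proj (α s)) - (r (hβ s)).comp (LinearMap.proj (β s))
  let R' : Γ(P, up V) →ₗ[B] (∀ i, Γ(P, up (O₀ i))) := LinearMap.pi fun i => r' (hVle i)
  let δ' : (∀ i, Γ(P, up (O₀ i))) →ₗ[B] (∀ s, Γ(P, up (O₁ s))) :=
    LinearMap.pi fun s => (r' (hα s)).comp (LinearMap.proj (α s)) - (r' (hβ s)).comp (LinearMap.proj (β s))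
  let l₀ : (∀ i, Γ(M, (O₀ i).1)) →ₗ[A] (∀ i, Γ(P, up (O₀ i))) :=
    LinearMap.pi fun i => (L (O₀ i)).comp (LinearMap.proj i)
  let l₁ : (∀ s, Γ(M, (O₁ s).1)) →ₗ[A] (∀ s, Γ(P, up (O₁ s))) :=
    LinearMap.pi fun s => (L (O₁ s)).comp (LinearMap.proj s)
  have hpi : ∀ {κ : Type u} [Finite κ] (O : κ → I), (∀ i, IsAffineOpen (O i).1) →
      Function.Bijective ((LinearMap.pi fun i => (L (O i)).comp (LinearMap.proj i)).liftBaseChange B) := by
    intro κ _ O hO
    haveI := Fintype.ofFinite κ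
    let e : B ⊗[A] (∀ i, Γ(M, (O i).1)) ≃ₗ[B] (∀ i, Γ(P, up (O i))) :=
      (TensorProduct.piRight A B B fun i => Γ(M, (O i).1)).trans
        (LinearEquiv.piCongrRight fun i => LinearEquiv.ofBijective (T (O i)) (haff _ (hO i)))
    have he : (LinearMap.pi fun i => (L (O i)).comp (LinearMap.proj i)).liftBaseChange B = e.toLinearMap := by
      ext i x j
      simp [e, T]
    rw [he]
    exact e.bijective
  obtain rfl : δg = δ := LinearMap.ext fun x => funext fun s => hδg x s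
  have k1 : ∀ w, δ' (l₀.liftBaseChange B w) = l₁.liftBaseChange B (δ.lTensor B w) := fun w => by
    induction w using TensorProduct.induction_on with
    | zero => simp
    | tmul b m =>
      rw [LinearMap.lTensor_tmul, LinearMap.liftBaseChange_tmul, LinearMap.liftBaseChange_tmul, map_smul]
      refine congrArg (b • ·) (funext fun s => ?_)
      show r' (hα s) (L (O₀ (α s)) (m (α s))) - r' (hβ s) (L (O₀ (β s)) (m (β s))) =
        L (O₁ s) (r (hα s) (m (α s)) - r (hβ s) (m (β s)))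
      rw [map_sub, nat (hα s), nat (hβ s)]
    | add a b ha hb => simp only [map_add, ha, hb]
  have hd : δ' (l₀.liftBaseChange B z) = 0 := by rw [k1, hz, map_zero]
  -- glue on the base change
  let upO : ι₀ → X'.Opens := fun i => up (O₀ i)
  obtain ⟨y, hy⟩ := exists_glue_family upO (fun i => upmono (hVle i))
    (fun p hp => by
      obtain ⟨i, hi⟩ := Opens.mem_iSup.1 (hcov hp.1)
      exact Opens.mem_iSup.2 ⟨i, hi, hp.2⟩) (l₀.liftBaseChange B z) fun i j => by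
    obtain ⟨s, rfl, rfl, hs⟩ := hpair i j
    have hs' : upO (α s) ⊓ upO (β s) ≤ up (O₁ s) := fun p hp => ⟨hs ⟨hp.1.1, hp.2.1⟩, hp.1.2⟩
    have h1 := congrArg (rs P hs') (sub_eq_zero.1 (congrFun hd s) :
      rs P (upmono (hα s)) (l₀.liftBaseChange B z (α s)) = rs P (upmono (hβ s)) (l₀.liftBaseChange B z (β s)))
    rw [rs_rs, rs_rs] at h1
    exact h1
  have e : up V = f' ⁻¹ᵁ W := inf_eq_right.2 hle'
  obtain ⟨n, b, x, hbx⟩ := hspan (rs P e.ge y)
  refine ⟨∑ i, b i ⊗ₜ x i, (hpi O₀ hO₀).1 ?_⟩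
  rw [map_sum, map_sum]
  funext i
  rw [Finset.sum_apply]
  refine Eq.trans ?_ (hy i)
  have h1 : upO i ≤ f' ⁻¹ᵁ W := inf_le_right
  refine Eq.trans ?_ ((congrArg (rs P h1) hbx).trans (rs_rs _ _ _))
  show _ = AddMonoidHom.mk' _ (rs_add (G := P) h1) (∑ k, b k • pullSec g' M hle' (x k))
  rw [map_sum]
  refine Finset.sum_congr rfl fun k _ => ?_
  rw [LinearMap.lTensor_tmul, LinearMap.liftBaseChange_tmul]
  show (f'.appLE W (up (O₀ i)) inf_le_right (b k)) •
      rs P inf_le_left (show Γ(P, g' ⁻¹ᵁ (O₀ i).1) from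
        ((Scheme.Modules.pullbackPushforwardAdjunction g').unit.app M).app (O₀ i).1 (Rg (x k) i)) =
    rs P h1 ((f'.app W).hom (b k) • pullSec g' M hle' (x k))
  refine Eq.trans ?_ (rs_smul _ _ _).symm
  rw [hRg, Scheme.Hom.appLE, CommRingCat.comp_apply]
  refine congrArg (_ • ·) ?_
  refine (congrArg (rs P inf_le_left) (app_rs ((Scheme.Modules.pullbackPushforwardAdjunction g').unit.app M) (O₀ i).2 (x k))).trans ?_
  exact (rs_rs _ _ _).trans (rs_rs hle' h1 _).symm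

end Groth.Agent.CohPullX
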