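import Groth.Agent.CohPullX.FpModelT
import Groth.Agent.CohPullX.SectionsBC
import Groth.Prelude.Def_CohBC2

/-!
# Base change in degree zero for proper flat families of finite presentation
-/

set_option autoImplicit false
set_option linter.style.haveILetI false
set_option linter.unusedSectionVars false
set_option backward.isDefEq.respectTransparency false
set_option backward.isDefEq.respectTransparency.types false
set_option maxHeartbeats 2000000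

universe u

open CategoryTheory CategoryTheory.Limits AlgebraicGeometry TopologicalSpace Opposite
open scoped TensorProduct

namespace Groth.Agent.CohPullX

open Groth.Agent

variable {X S : Scheme.{u}} (f : X ⟶ S) (M : X.Modules)

/-- The sections of `M` over the preimage of `U` are the kernel of a map with flat cokernel, after a finite
affine covering. -/
def HasKerBC (U : S.Opens) : Prop :=
  IsAffineOpen U ∧ ∃ (ι₀ ι₁ : Type u) (_ : Finite ι₀) (_ : Finite ι₁)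
    (O₀ : ι₀ → {V : X.Opens // V ≤ f ⁻¹ᵁ U}) (O₁ : ι₁ → {V : X.Opens // V ≤ f ⁻¹ᵁ U})
    (α β : ι₁ → ι₀) (hα : ∀ s, (O₁ s).1 ≤ (O₀ (α s)).1) (hβ : ∀ s, (O₁ s).1 ≤ (O₀ (β s)).1),
    (∀ i, IsAffineOpen (O₀ i).1) ∧ (∀ i, IsAffineOpen (O₁ i).1) ∧ f ⁻¹ᵁ U ≤ ⨆ i, (O₀ i).1 ∧
    (∀ i j, ∃ s, α s = i ∧ β s = j ∧ (O₀ i).1 ⊓ (O₀ j).1 ≤ (O₁ s).1) ∧
    (letI : ∀ V : {V : X.Opens // V ≤ f ⁻¹ᵁ U}, Module Γ(S, U) Γ(M, V.1) :=
        fun V => Module.compHom _ (f.appLE U V.1 V.2).hom;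
      Module.Flat Γ(S, U) (∀ s, Γ(M, (O₁ s).1)) ∧
        ∀ δ : (∀ i, Γ(M, (O₀ i).1)) →ₗ[Γ(S, U)] (∀ s, Γ(M, (O₁ s).1)),
          (∀ x s, δ x s = QCoh.rs M (hα s) (x (α s)) - QCoh.rs M (hβ s) (x (β s))) →
          Module.Flat Γ(S, U) ((∀ s, Γ(M, (O₁ s).1)) ⧸ LinearMap.range δ))

variable {f M}

theorem rhoV_res {U : S.Opens} (W : ((f ⁻¹ᵁ U : X.Opens) : Scheme.{u}).Opens)
    (h : (f ⁻¹ᵁ U).ι ''ᵁ W ≤ f ⁻¹ᵁ U) (a : Γ(S, U)) :
    ((f ⁻¹ᵁ U : X.Opens) : Scheme.{u}).presheaf.map (homOfLE (le_top : W ≤ ⊤)).op (QCoh.rhoV f U a) =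
      (f.appLE U ((f ⁻¹ᵁ U).ι ''ᵁ W) h).hom a := by
  unfold QCoh.rhoV
  erw [RingHom.comp_apply]
  rw [Scheme.Opens.ι_appLE, Scheme.Hom.appLE, CommRingCat.comp_apply]
  exact QCoh.ringMap_map (X := X) ((f ⁻¹ᵁ U).ι.opensFunctor.map (homOfLE (le_top : W ≤ ⊤))) _ _

/-- A finite affine covering of the preimage of an affine open, and coordinates on its Čech complex. -/
theorem exists_cech_coords [QuasiCompact f] [IsSeparated f] (hM : Coh.IsQCoh M)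
    (hfl : FlatMod.IsFlatOver f M) {U : S.Opens} (hU : IsAffineOpen U) :
    letI : ((f ⁻¹ᵁ U : X.Opens) : Scheme.{u}).Over (Spec (CommRingCat.of Γ(S, U))) := ⟨QCoh.overSpec f hU⟩
    letI : ∀ V : {V : X.Opens // V ≤ f ⁻¹ᵁ U}, Module Γ(S, U) Γ(M, V.1) :=
      fun V => Module.compHom _ (f.appLE U V.1 V.2).hom
    ∃ (κ : Type u) (_ : Finite κ) (W : κ → ((f ⁻¹ᵁ U : X.Opens) : Scheme.{u}).Opens),
      (⨆ i, W i = ⊤) ∧ (∀ {n : ℕ} (σ : Fin (n + 1) → κ), IsAffineOpen (⨅ a, W (σ a))) ∧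
      Module.Flat Γ(S, U) ((QCoh.cechA (A := Γ(S, U)) (M.restrict (f ⁻¹ᵁ U).ι) W).X 1) ∧
      ∃ (O₀ : (Fin 1 → κ) → {V : X.Opens // V ≤ f ⁻¹ᵁ U}) (O₁ : (Fin 2 → κ) → {V : X.Opens // V ≤ f ⁻¹ᵁ U})
        (α β : (Fin 2 → κ) → (Fin 1 → κ)) (hα : ∀ s, (O₁ s).1 ≤ (O₀ (α s)).1)
        (hβ : ∀ s, (O₁ s).1 ≤ (O₀ (β s)).1),
        (∀ i, IsAffineOpen (O₀ i).1) ∧ (∀ i, IsAffineOpen (O₁ i).1) ∧ f ⁻¹ᵁ U ≤ ⨆ i, (O₀ i).1 ∧
        (∀ i j, ∃ s, α s = i ∧ β s = j ∧ (O₀ i).1 ⊓ (O₀ j).1 ≤ (O₁ s).1) ∧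
        ∃ (e₀ : (QCoh.cechA (A := Γ(S, U)) (M.restrict (f ⁻¹ᵁ U).ι) W).X 0 ≃ₗ[Γ(S, U)] (∀ i, Γ(M, (O₀ i).1)))
          (e₁ : (QCoh.cechA (A := Γ(S, U)) (M.restrict (f ⁻¹ᵁ U).ι) W).X 1 ≃ₗ[Γ(S, U)] (∀ s, Γ(M, (O₁ s).1))),
          ∀ δ : (∀ i, Γ(M, (O₀ i).1)) →ₗ[Γ(S, U)] (∀ s, Γ(M, (O₁ s).1)),
            (∀ x s, δ x s = QCoh.rs M (hα s) (x (α s)) - QCoh.rs M (hβ s) (x (β s))) →
            ∀ c, δ (e₀ c) = e₁ (((QCoh.cechA (A := Γ(S, U)) (M.restrict (f ⁻¹ᵁ U).ι) W).d 0 1).hom c) := by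
  classical
  let O : X.Opens := f ⁻¹ᵁ U
  let j := O.ι
  letI : (O : Scheme.{u}).Over (Spec (CommRingCat.of Γ(S, U))) := ⟨QCoh.overSpec f hU⟩
  let π := (O : Scheme.{u}) ↘ Spec (CommRingCat.of Γ(S, U))
  haveI : IsSeparated (f ∣_ U) := IsZariskiLocalAtTarget.restrict ‹_› U
  haveI : IsSeparated π := by
    show IsSeparated ((f ∣_ U) ≫ hU.isoSpec.hom)
    infer_instance
  haveI : QuasiCompact π := by
    show QuasiCompact ((f ∣_ U) ≫ hU.isoSpec.hom)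
    infer_instance
  haveI : CompactSpace (O : Scheme.{u}) := QuasiCompact.compactSpace_of_compactSpace π
  haveI : (O : Scheme.{u}).IsSeparated := ⟨by
    rw [← Limits.terminal.comp_from π]
    infer_instance⟩
  let N := M.restrict j
  let eR : (Scheme.Modules.pullback j).obj M ≅ N := ((Scheme.Modules.restrictFunctorIsoPullback j).app M).symm
  have hN : Coh.IsQCoh N := QCoh.isQCoh_restrict j hM
  have hfl' : FlatMod.IsFlatOver π N :=
    QCoh.isFlatOver_of_iso (f := QCoh.overSpec f hU) eR (QCoh.isQCoh_pullback _ hM)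
      fun x => MorLib.FlatBC.isFlatOverAt_baseChange f (QCoh.overSpec f hU) j hU.fromSpec
        (QCoh.isPullback_overSpec (f := f) hU) M x (hfl _)
  obtain ⟨κ, _, W, hcov, hW⟩ := QCoh.exists_affine_cover (X := (O : Scheme.{u}))
  let K := QCoh.cechA (A := Γ(S, U)) N W
  have hle : ∀ V : (O : Scheme.{u}).Opens, j ''ᵁ V ≤ f ⁻¹ᵁ U := fun V => O.ι_image_le V
  let O₀ : (Fin 1 → κ) → {V : X.Opens // V ≤ f ⁻¹ᵁ U} := fun σ => ⟨j ''ᵁ (⨅ a, W (σ a)), hle _⟩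
  let O₁ : (Fin 2 → κ) → {V : X.Opens // V ≤ f ⁻¹ᵁ U} := fun σ => ⟨j ''ᵁ (⨅ a, W (σ a)), hle _⟩
  let α : (Fin 2 → κ) → (Fin 1 → κ) := fun σ b => σ ((0 : Fin 2).succAbove b)
  let β : (Fin 2 → κ) → (Fin 1 → κ) := fun σ b => σ ((1 : Fin 2).succAbove b)
  have hα : ∀ s, (O₁ s).1 ≤ (O₀ (α s)).1 := fun s =>
    j.image_mono (le_iInf fun b => iInf_le (fun a => W (s a)) _)
  have hβ : ∀ s, (O₁ s).1 ≤ (O₀ (β s)).1 := fun s =>
    j.image_mono (le_iInf fun b => iInf_le (fun a => W (s a)) _)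
  refine ⟨κ, inferInstance, W, hcov, hW, QCoh.flat_cechA N hN hfl' hW 1, O₀, O₁, α, β, hα, hβ,
    fun i => (hW i).image_of_isOpenImmersion j, fun i => (hW i).image_of_isOpenImmersion j, ?_, ?_, ?_⟩
  · intro x hx
    have hx' : (⟨x, hx⟩ : (O : Scheme.{u})) ∈ ⨆ i, W i := by rw [hcov]; trivial
    obtain ⟨i, hi⟩ := Opens.mem_iSup.1 hx'
    refine Opens.mem_iSup.2 ⟨fun _ => i, ⟨⟨x, hx⟩, ?_, rfl⟩⟩
    exact SetLike.le_def.1 (le_iInf fun _ => le_rfl : W i ≤ ⨅ _ : Fin 1, W i) hi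
  · intro i k
    refine ⟨![k 0, i 0], funext fun b => ?_, funext fun b => ?_, ?_⟩
    · fin_cases b; rfl
    · fin_cases b; rfl
    · show j ''ᵁ (⨅ a, W (i a)) ⊓ j ''ᵁ (⨅ a, W (k a)) ≤ j ''ᵁ (⨅ a, W (![k 0, i 0] a))
      refine le_trans (b := j ''ᵁ ((⨅ a, W (i a)) ⊓ ⨅ a, W (k a))) ?_ ?_
      · rintro x ⟨⟨y, hy, rfl⟩, ⟨z, hz, hzx⟩⟩
        obtain rfl : z = y := j.isOpenEmbedding.injective hzx
        exact ⟨z, ⟨hy, hz⟩, rfl⟩
      refine j.image_mono (le_iInf fun a => ?_)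
      fin_cases a
      · exact inf_le_right.trans (iInf_le (fun a => W (k a)) 0)
      · exact inf_le_left.trans (iInf_le (fun a => W (i a)) 0)
  · letI mods : ∀ V : {V : X.Opens // V ≤ f ⁻¹ᵁ U}, Module Γ(S, U) Γ(M, V.1) :=
      fun V => Module.compHom _ (f.appLE U V.1 V.2).hom
    let ρ := Coh.toGlobal π
    have hρ : ρ = QCoh.rhoV f U := QCoh.toGlobal_overSpec f hU
    have hs : ∀ (V : (O : Scheme.{u}).Opens) (a : Γ(S, U)) (x : Γ(N, V)),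
        (letI := QCoh.secModule ρ N V; (show Γ(M, j ''ᵁ V) from a • x)) =
          (letI := mods ⟨j ''ᵁ V, hle V⟩; a • (show Γ(M, j ''ᵁ V) from x)) := fun V a x => by
      show (show Γ(M, j ''ᵁ V) from
          ((((O : Scheme.{u}).presheaf.map (homOfLE (le_top : V ≤ ⊤)).op).hom (ρ a)) • x : Γ(N, V))) =
        (f.appLE U (j ''ᵁ V) (hle V)).hom a • (show Γ(M, j ''ᵁ V) from x)
      rw [hρ]
      show (j.appIso V).inv ((O : Scheme.{u}).presheaf.map (homOfLE (le_top : V ≤ ⊤)).op (QCoh.rhoV f U a)) •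
          (show Γ(M, j ''ᵁ V) from x) = _
      rw [Scheme.Opens.ι_appIso]
      exact congrArg (fun r : Γ(X, j ''ᵁ V) => r • (show Γ(M, j ''ᵁ V) from x)) (rhoV_res V (hle V) a)
    let e : ∀ p : ℕ, K.X p ≃ₗ[Γ(S, U)]
        (∀ σ : Fin (p + 1) → κ, Γ(M, (⟨j ''ᵁ (⨅ a, W (σ a)), hle _⟩ : {V : X.Opens // V ≤ f ⁻¹ᵁ U}).1)) :=
      fun p =>
        letI := fun σ : Fin (p + 1) → κ => QCoh.secModule ρ N (⨅ a, W (σ a))
        { toFun := fun c σ => QCoh.coordEquiv ρ W N p c σ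
          invFun := fun x => (QCoh.coordEquiv ρ W N p).symm x
          map_add' := fun c c' => map_add (QCoh.coordEquiv ρ W N p) c c'
          map_smul' := fun a c => funext fun σ =>
            (congrFun (map_smul (QCoh.coordEquiv ρ W N p) a c) σ).trans (hs _ a _)
          left_inv := fun c => (QCoh.coordEquiv ρ W N p).symm_apply_apply c
          right_inv := fun x => (QCoh.coordEquiv ρ W N p).apply_symm_apply x }
    refine ⟨e 0, e 1, fun δ hδ => ?_⟩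
    intro c
    funext s
    rw [hδ]
    show _ = ((QCoh.Ab.natCx N.presheaf W).d 0 1 c).1 s ⟨_, fun a => iInf_le _ a⟩
    rw [QCoh.Ab.natCx_d]
    show _ = (show Γ(N, ⨅ b, W (s b)) from ∑ a : Fin 2, (-1 : ℤ) ^ (a : ℕ) •
      (show Γ(N, ⨅ b, W (s b)) from
        c.1 (fun b => s (a.succAbove b)) ⟨⨅ b, W (s b), fun b => iInf_le (fun i => W (s i)) (a.succAbove b)⟩))
    rw [Fin.sum_univ_two]
    have h : ∀ (τ : Fin 1 → κ) (hτ : ⨅ b, W (s b) ≤ ⨅ b, W (τ b)),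
        c.1 τ ⟨⨅ b, W (s b), fun b => hτ.trans (iInf_le (fun i => W (τ i)) b)⟩ =
          QCoh.rs M (j.image_mono hτ) (show Γ(M, j ''ᵁ _) from e 0 c τ) := fun τ hτ =>
      (c.2 τ _ _ (fun b => iInf_le (fun i => W (τ i)) b) _ (homOfLE hτ)).symm
    simp only [Fin.val_zero, Fin.val_one, pow_zero, pow_one, one_smul, neg_smul]
    rw [sub_eq_add_neg]
    exact congrArg₂ (fun p q => p + -q) (h (α s) (le_iInf fun b => iInf_le (fun a => W (s a)) _)).symm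
      (h (β s) (le_iInf fun b => iInf_le (fun a => W (s a)) _)).symm

/-- Right exactness of the Čech complex in degree zero gives `HasKerBC`. -/
theorem hasKerBC_of_preservesEpi [QuasiCompact f] [IsSeparated f] (hM : Coh.IsQCoh M)
    (hfl : FlatMod.IsFlatOver f M) {U : S.Opens} (hU : IsAffineOpen U)
    (hc : letI : ((f ⁻¹ᵁ U : X.Opens) : Scheme.{u}).Over (Spec (CommRingCat.of Γ(S, U))) := ⟨QCoh.overSpec f hU⟩
      ∀ {κ : Type u} [Finite κ] (W : κ → ((f ⁻¹ᵁ U : X.Opens) : Scheme.{u}).Opens), ⨆ i, W i = ⊤ →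
        (∀ {n : ℕ} (σ : Fin (n + 1) → κ), IsAffineOpen (⨅ a, W (σ a))) →
        (CohIII.TFun (QCoh.cechA (A := Γ(S, U)) ((Scheme.Modules.pullback (f ⁻¹ᵁ U).ι).obj M) W)
          0).PreservesEpimorphisms) : HasKerBC f M U := by
  obtain ⟨κ, _, W, hcov, hW, hflat1, O₀, O₁, α, β, hα, hβ, hO₀, hO₁, hc₀, hpair, e₀, e₁, key⟩ :=
    exists_cech_coords hM hfl hU
  let j := (f ⁻¹ᵁ U).ι
  letI : ((f ⁻¹ᵁ U : X.Opens) : Scheme.{u}).Over (Spec (CommRingCat.of Γ(S, U))) := ⟨QCoh.overSpec f hU⟩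
  letI mods : ∀ V : {V : X.Opens // V ≤ f ⁻¹ᵁ U}, Module Γ(S, U) Γ(M, V.1) :=
    fun V => Module.compHom _ (f.appLE U V.1 V.2).hom
  haveI := hflat1
  let N := M.restrict j
  let eR : (Scheme.Modules.pullback j).obj M ≅ N := ((Scheme.Modules.restrictFunctorIsoPullback j).app M).symm
  let K := QCoh.cechA (A := Γ(S, U)) N W
  obtain ⟨i₁⟩ := QCoh.nonempty_tfun_iso (A := Γ(S, U)) _ (QCoh.isQCoh_pullback j hM) hcov hW 0
  obtain ⟨i₂⟩ := QCoh.nonempty_tfun_iso (A := Γ(S, U)) N (QCoh.isQCoh_restrict j hM) hcov hW 0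
  have hQ := flat_coker_of_preservesEpi K (preservesEpi_of_forget_iso
    (i₁ ≪≫ Functor.isoWhiskerRight (tensorAFunctorCongr Γ(S, U) eR) _ ≪≫ i₂.symm) (hc W hcov hW))
  refine ⟨hU, _, _, inferInstance, inferInstance, O₀, O₁, α, β, hα, hβ, hO₀, hO₁, hc₀, hpair,
    Module.Flat.of_linearEquiv e₁.symm, fun δ hδ => ?_⟩
  have hr : (LinearMap.range (K.d 0 1).hom).map (e₁ : K.X 1 →ₗ[Γ(S, U)] _) = LinearMap.range δ := by
    ext x
    constructor
    · rintro ⟨_, ⟨c, rfl⟩, rfl⟩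
      exact ⟨e₀ c, key δ hδ c⟩
    · rintro ⟨y, rfl⟩
      obtain ⟨c, rfl⟩ := e₀.surjective y
      exact ⟨_, ⟨c, rfl⟩, (key δ hδ c).symm⟩
  haveI := hQ
  exact Module.Flat.of_linearEquiv (Submodule.Quotient.equiv _ _ e₁ hr).symm

/-- The base change map on pulled back sections. -/
theorem bc0_app_pullSec {X' S' : Scheme.{u}} {g : S' ⟶ S} {g' : X' ⟶ X} {f' : X' ⟶ S'}
    (w : g' ≫ f = f' ≫ g) (F : X.Modules) (U : S.Opens) (W : S'.Opens) (hle : W ≤ g ⁻¹ᵁ U)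
    (hle' : f' ⁻¹ᵁ W ≤ g' ⁻¹ᵁ (f ⁻¹ᵁ U)) (m : Γ((Scheme.Modules.pushforward f).obj F, U)) :
    (CohBC.bc0 f g f' g' w F).app W (QCoh.pullSec g ((Scheme.Modules.pushforward f).obj F) hle m) =
      (show Γ((Scheme.Modules.pushforward f').obj ((Scheme.Modules.pullback g').obj F), W) from
        QCoh.pullSec g' F hle' (show Γ(F, f ⁻¹ᵁ U) from m)) := by
  let α := CohBC.bc0Adj f g f' g' w F
  let β := CohBC.bc0 f g f' g' w F
  have h1 : (Scheme.Modules.pullbackPushforwardAdjunction g).unit.app _ ≫ (Scheme.Modules.pushforward g).map β = α :=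
    ((Scheme.Modules.pullbackPushforwardAdjunction g).homEquiv_unit _ _ β).symm.trans (Equiv.apply_symm_apply _ α)
  have h2 : β.app (g ⁻¹ᵁ U) (((Scheme.Modules.pullbackPushforwardAdjunction g).unit.app ((Scheme.Modules.pushforward f).obj F)).app U m) =
      α.app U m := congrArg (fun t => t.app U m) h1
  refine (Groth.Agent.QCoh.map_app_comm β (homOfLE hle) _).trans ?_
  refine (congrArg _ h2).trans ?_
  let z : Γ((Scheme.Modules.pullback g').obj F, g' ⁻¹ᵁ (f ⁻¹ᵁ U)) :=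
    ((Scheme.Modules.pullbackPushforwardAdjunction g').unit.app F).app (f ⁻¹ᵁ U) (show Γ(F, f ⁻¹ᵁ U) from m)
  have e : g' ⁻¹ᵁ (f ⁻¹ᵁ U) = f' ⁻¹ᵁ (g ⁻¹ᵁ U) := by
    rw [← Scheme.Hom.comp_preimage, ← Scheme.Hom.comp_preimage, w]
  show ((Scheme.Modules.pullback g').obj F).presheaf.map (homOfLE (f'.preimage_mono hle)).op
    (((Scheme.Modules.pullback g').obj F).presheaf.map (eqToHom e.symm).op z) =
    ((Scheme.Modules.pullback g').obj F).presheaf.map (homOfLE hle').op z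
  exact Groth.Agent.QCoh.map_map (homOfLE (f'.preimage_mono hle)) (eqToHom e.symm) z

/-- Base change in degree zero is an isomorphism where kernels commute with base change. -/
theorem isIso_bc0_of_hasKerBC {X' S' : Scheme.{u}} {g : S' ⟶ S} {g' : X' ⟶ X} {f' : X' ⟶ S'}
    (h : IsPullback g' f' f g) [QuasiCompact f] [QuasiSeparated f] {F : X.Modules} (hF : Coh.IsQCoh F)
    (hker : ∀ x : S', ∃ U : S.Opens, g x ∈ U ∧ HasKerBC f F U) :
    IsIso (CohBC.bc0 f g f' g' h.w F) := by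
  let α := CohBC.bc0Adj f g f' g' h.w F
  let β : (Scheme.Modules.pullback g).obj ((Scheme.Modules.pushforward f).obj F) ⟶
      (Scheme.Modules.pushforward f').obj ((Scheme.Modules.pullback g').obj F) :=
    ((Scheme.Modules.pullbackPushforwardAdjunction g).homEquiv _ _).symm α
  show IsIso β
  have hβ := fun U W hle hle' m => bc0_app_pullSec (f := f) (g := g) (g' := g') (f' := f') h.w F U W hle hle' m
  refine Groth.Agent.QCoh.isIso_of_isBasis β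
    (B := {W | IsAffineOpen W ∧ ∃ U : S.Opens, HasKerBC f F U ∧ W ≤ g ⁻¹ᵁ U}) ?_ ?_
  · refine TopologicalSpace.Opens.isBasis_iff_nbhd.2 fun {V} x hx => ?_
    obtain ⟨U, hxU, hU⟩ := hker x
    obtain ⟨_, ⟨W, hW, rfl⟩, hxW, hWle⟩ := S'.isBasis_affineOpens.exists_subset_of_mem_open
      (show x ∈ V ⊓ g ⁻¹ᵁ U from ⟨hx, hxU⟩) (V ⊓ g ⁻¹ᵁ U).isOpen
    exact ⟨W, ⟨hW, U, hU, fun y hy => (hWle hy).2⟩, hxW, fun y hy => (hWle hy).1⟩
  rintro W ⟨hW, U, ⟨hU, ι₀, ι₁, _, _, O₀, O₁, αi, βi, hαi, hβi, hO₀, hO₁, hcov, hpair, hflat⟩, hle⟩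
  have hle' : f' ⁻¹ᵁ W ≤ g' ⁻¹ᵁ (f ⁻¹ᵁ U) := by
    rw [← Scheme.Hom.comp_preimage, h.w, Scheme.Hom.comp_preimage]
    exact f'.preimage_mono hle
  letI : Algebra Γ(S, U) Γ(S', W) := (g.appLE U W hle).hom.toAlgebra
  letI : Module Γ(S, U) Γ(F, f ⁻¹ᵁ U) := Module.compHom _ (f.app U).hom
  let P := (Scheme.Modules.pullback g').obj F
  letI : Module Γ(S', W) Γ(P, f' ⁻¹ᵁ W) := Module.compHom _ (f'.app W).hom
  letI : Module Γ(S, U) Γ(P, f' ⁻¹ᵁ W) := Module.compHom _ (algebraMap Γ(S, U) Γ(S', W))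
  haveI : IsScalarTower Γ(S, U) Γ(S', W) Γ(P, f' ⁻¹ᵁ W) := .of_algebraMap_smul fun _ _ => rfl
  let G := (Scheme.Modules.pullback g).obj ((Scheme.Modules.pushforward f).obj F)
  letI : Module Γ(S, U) Γ(G, W) := Module.compHom _ (algebraMap Γ(S, U) Γ(S', W))
  haveI : IsScalarTower Γ(S, U) Γ(S', W) Γ(G, W) := .of_algebraMap_smul fun _ _ => rfl
  let l₁ : Γ((Scheme.Modules.pushforward f).obj F, U) →ₗ[Γ(S, U)] Γ(G, W) :=
    { toFun := Groth.Agent.QCoh.pullSec g _ hle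
      map_add' := Groth.Agent.QCoh.pullSec_add g _ hle
      map_smul' := fun r x => Groth.Agent.QCoh.pullSec_smul g _ hle r x }
  let φ : Γ(G, W) →ₗ[Γ(S', W)] Γ(P, f' ⁻¹ᵁ W) :=
    { toFun := β.app W
      map_add' := fun a b => map_add (β.app W).hom a b
      map_smul' := fun r x => Scheme.Modules.Hom.app_smul β r x }
  let l₂ : Γ(F, f ⁻¹ᵁ U) →ₗ[Γ(S, U)] Γ(P, f' ⁻¹ᵁ W) :=
    { toFun := fun m => φ (l₁ m)
      map_add' := fun a b => by
        show φ (l₁ (show Γ((Scheme.Modules.pushforward f).obj F, U) from a + b)) = φ (l₁ a) + φ (l₁ b)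
        rw [← map_add, ← map_add]
      map_smul' := fun r x => (congrArg φ (l₁.map_smul r x)).trans ((φ.restrictScalars Γ(S, U)).map_smul r (l₁ x)) }
  have hb₁ : IsBaseChange Γ(S', W) l₁ := Groth.Agent.QCoh.isBaseChange_pullback hU g hW
    (Groth.Agent.QCoh.isQCoh_pushforward f hF) hle (fun _ => rfl) l₁ fun _ => rfl
  have hb₂ : IsBaseChange Γ(S', W) l₂ :=
    bijective_sections_kerBC h hF hU hW hle hle' O₀ hO₀ O₁ hO₁ αi βi hαi hβi hcov hpair hflat l₂ fun m => hβ U W hle hle' m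
  let ψ : TensorProduct Γ(S, U) Γ(S', W) Γ((Scheme.Modules.pushforward f).obj F, U) ≃ₗ[Γ(S', W)] Γ(P, f' ⁻¹ᵁ W) :=
    hb₂.equiv
  have hψ : φ = (hb₁.equiv.symm.trans ψ).toLinearMap := hb₁.algHom_ext _ _ fun m => by
    show φ (l₁ m) = ψ (hb₁.equiv.symm (l₁ m))
    rw [hb₁.equiv_symm_apply]
    exact ((hb₂.equiv_tmul 1 _).trans (one_smul _ _)).symm
  have : Function.Bijective φ := by rw [hψ]; exact (hb₁.equiv.symm.trans ψ).bijective
  exact this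

section Exact

variable [IsProper f] [LocallyOfFinitePresentation f] [HasInjectiveResolutions X.Modules]
  (hfp : CohB1.IsFP M) (hfl : FlatMod.IsFlatOver f M)

include hfp hfl

/-- Exactness of the model in degree zero gives a neighbourhood where kernels commute with base change and
the direct image is free. -/
theorem IsFpModel.exists_kerBC_nhd {y : S} :
    ∃ (V : S.Opens) (hV : IsAffineOpen V) (A₀ : Type u) (_ : CommRing A₀) (_ : IsNoetherianRing A₀)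
      (φ : A₀ →+* Γ(S, V)) (P : ChainComplex (ModuleCat.{u} A₀) ℤ) (hy : y ∈ V), IsFpModel f M hV φ P ∧
      (QCoh.IsExactT (QCoh.locCx P (modelPt φ hV hy)) 0 → ∃ W : S.Opens, y ∈ W ∧ W ≤ V ∧ IsAffineOpen W ∧
        HasKerBC f M W) := by
  obtain ⟨_, ⟨V, hV, rfl⟩, hy, -⟩ :=
    S.isBasis_affineOpens.exists_subset_of_mem_open (Set.mem_univ y) isOpen_univ
  have hV' : IsAffineOpen V := hV
  obtain ⟨A₀, _, hA, φ, P, hP, hcech⟩ := exists_isFpModel_cech hfp hfl hV'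
  haveI := hA
  refine ⟨V, hV', A₀, inferInstance, hA, φ, P, hy, hP, fun hex => ?_⟩
  obtain ⟨r, hr, hpe⟩ := exists_preservesEpi_bc P hP.1 hP.flat _ _ hex
  have hyW : y ∈ S.basicOpen (φ r) := (QCoh.mem_basicOpen_iff_notMem hV' hy (φ r)).2 fun hm => hr hm
  refine ⟨S.basicOpen (φ r), hyW, S.basicOpen_le _, hV'.basicOpen _, ?_⟩
  let ψ := (S.presheaf.map (homOfLE (S.basicOpen_le (φ r))).op).hom
  refine hasKerBC_of_preservesEpi (QCoh.isQCoh_of_isFP hfp) hfl (hV'.basicOpen _) ?_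
  intro κ _ W hcov hW
  letI : ((f ⁻¹ᵁ S.basicOpen (φ r) : X.Opens) : Scheme.{u}).Over (Spec (CommRingCat.of Γ(S, S.basicOpen (φ r)))) :=
    ⟨QCoh.overSpec f (hV'.basicOpen _)⟩
  refine hcech _ ψ _ (f ⁻¹ᵁ S.basicOpen (φ r)).ι ?_ 0 ?_ W hcov hW
  · rw [show Spec.map (CommRingCat.ofHom ψ) ≫ hV'.fromSpec = (hV'.basicOpen (φ r)).fromSpec from
      hV'.map_fromSpec (hV'.basicOpen _) (homOfLE (S.basicOpen_le (φ r))).op]
    exact QCoh.isPullback_overSpec (f := f) _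
  · exact hpe _ (ψ.comp φ) (S.toRingedSpace.isUnit_res_basicOpen (φ r))

/-- Vanishing of the first fibre cohomology gives a neighbourhood where kernels commute with base change. -/
theorem exists_kerBC_nhd_of_H1_zero (y : S) (h₁ : Subsingleton (CohIII.fiberH f M y 1)) :
    ∃ W : S.Opens, y ∈ W ∧ HasKerBC f M W := by
  obtain ⟨V, hV, A₀, _, hA, φ, P, hy, hP, hk⟩ := IsFpModel.exists_kerBC_nhd hfp hfl (y := y)
  haveI := hA
  obtain ⟨W, hW, -, -, hb⟩ := hk (hP.isExactT_of_neighbours 0 hy h₁ (fun j hj => by omega))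
  exact ⟨W, hW, hb⟩

end Exact

end Groth.Agent.CohPullX
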