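import Groth.Prelude.Def_RDer
import Groth.Agent.TriCat.AcyclicObj
import Mathlib.Algebra.Homology.ShortComplex.HomologicalComplex

/-!
# The second edge map is invertible when cohomology and terms are acyclic
-/

set_option autoImplicit false
set_option backward.isDefEq.respectTransparency false

universe v₂ v₃ u₂ u₃

open CategoryTheory CategoryTheory.Limits HomologicalComplex

namespace Groth.Agent.CohPullX

open Groth.Agent

variable {B : Type u₂} [Category.{v₂} B] [Abelian B]
  {C : Type u₃} [Category.{v₃} C] [Abelian C] (Ψ : B ⥤ C) [Ψ.Additive] [PreservesFiniteLimits Ψ]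

theorem isIso_cyclesComparison {ι' : Type*} {c : ComplexShape ι'} (K : HomologicalComplex B c) (i : ι') :
    IsIso (RDer.cyclesComparison Ψ K i) :=
  inferInstanceAs (IsIso ((((Ψ.mapHomologicalComplex c).obj K).cyclesIsKernel i (c.next i) rfl).conePointUniqueUpToIso
    (KernelFork.mapIsLimit _ (K.cyclesIsKernel i (c.next i) rfl) Ψ)).hom)

theorem isIso_homologyComparison_of_cokernel {ι' : Type*} {c : ComplexShape ι'} (K : HomologicalComplex B c)
    (i j : ι') (hj : c.prev i = j)
    (hc : (ShortComplex.mk (Ψ.map (K.toCycles j i)) (Ψ.map (K.homologyπ i))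
      (by rw [← Ψ.map_comp, toCycles_comp_homologyπ, Ψ.map_zero])).Exact) (he : Epi (Ψ.map (K.homologyπ i))) :
    IsIso (RDer.homologyComparison Ψ K i) := by
  subst hj
  haveI := isIso_cyclesComparison Ψ K i
  let S := ShortComplex.mk (Ψ.map (K.toCycles (c.prev i) i)) (Ψ.map (K.homologyπ i))
    (by rw [← Ψ.map_comp, toCycles_comp_homologyπ, Ψ.map_zero])
  haveI : Epi S.g := he
  let K' := (Ψ.mapHomologicalComplex c).obj K
  have hw : S.f ≫ inv (RDer.cyclesComparison Ψ K i) ≫ K'.homologyπ i = 0 := by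
    show Ψ.map (K.toCycles (c.prev i) i) ≫ _ = 0
    rw [← RDer.toCycles_cyclesComparison_assoc, IsIso.hom_inv_id_assoc, toCycles_comp_homologyπ]
  refine ⟨hc.desc (inv (RDer.cyclesComparison Ψ K i) ≫ K'.homologyπ i) hw, ?_, ?_⟩
  · rw [← cancel_epi (K'.homologyπ i), RDer.homologyπ_homologyComparison_assoc]
    erw [hc.g_desc]
    rw [IsIso.hom_inv_id_assoc, Category.comp_id]
  · rw [← cancel_epi S.g, hc.g_desc_assoc, Category.assoc]
    erw [RDer.homologyπ_homologyComparison]
    rw [IsIso.inv_hom_id_assoc, Category.comp_id]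

variable [EnoughInjectives B] (K : CochainComplex B ℕ)

/-- Boundaries. -/
noncomputable abbrev bd (i : ℕ) : B := kernel (K.homologyπ i)

/-- The differential onto the boundaries. -/
noncomputable abbrev toBd (n : ℕ) : K.X n ⟶ bd K (n + 1) :=
  kernel.lift _ (K.toCycles n (n + 1)) (K.toCycles_comp_homologyπ _ _)

theorem bdSeq_shortExact (i : ℕ) :
    (ShortComplex.mk (kernel.ι (K.homologyπ i)) (K.homologyπ i) (kernel.condition _)).ShortExact where
  exact := ShortComplex.exact_of_f_is_kernel _ (kernelIsKernel _)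

theorem zSeq_shortExact (n : ℕ) :
    (ShortComplex.mk (K.iCycles n) (toBd K n) (by
      rw [← cancel_mono (kernel.ι (K.homologyπ (n + 1))), zero_comp, Category.assoc, kernel.lift_ι,
        ← cancel_mono (K.iCycles (n + 1)), zero_comp, Category.assoc, toCycles_i, iCycles_d])).ShortExact := by
  haveI : Epi (toBd K n) :=
    (ShortComplex.exact_iff_epi_kernel_lift (ShortComplex.mk (K.toCycles n (n + 1)) (K.homologyπ (n + 1))
      (K.toCycles_comp_homologyπ _ _))).1 (ShortComplex.exact_of_g_is_cokernel _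
        (K.homologyIsCokernel n (n + 1) (CochainComplex.prev_nat_succ n)))
  haveI : Mono (K.iCycles n) := inferInstance
  refine { exact := ?_ }
  refine ShortComplex.exact_of_f_is_kernel _ ?_
  have h : toBd K n ≫ kernel.ι (K.homologyπ (n + 1)) ≫ K.iCycles (n + 1) = K.d n (n + 1) := by
    rw [kernel.lift_ι_assoc, toCycles_i]
  refine KernelFork.IsLimit.ofι' _ _ (fun {A} a ha => ⟨(K.cyclesIsKernel n (n + 1) (CochainComplex.next ℕ n)).lift
    (KernelFork.ofι a (by rw [← h, reassoc_of% ha, zero_comp])), Fork.IsLimit.lift_ι _⟩)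

variable (hK : ∀ n, TriCat.IsRightAcyclic Ψ (K.X n)) (hH : ∀ n, TriCat.IsRightAcyclic Ψ (K.homology n))

include hK hH in
theorem acyclic_cycles : ∀ n, TriCat.IsRightAcyclic Ψ (K.cycles n) := by
  intro n
  induction n with
  | zero =>
    haveI : IsIso (K.homologyπ 0) := K.isIso_homologyπ 0 0 (CochainComplex.prev_nat_zero) (K.shape _ _ (by simp))
    exact fun i hi => (hH 0 i hi).of_iso ((Ψ.rightDerived i).mapIso (asIso (K.homologyπ 0)))
  | succ n ih =>
    exact TriCat.acyclic₂ (bdSeq_shortExact K (n + 1)) (TriCat.acyclic₃ (zSeq_shortExact K n) ih (hK n)) (hH (n + 1))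

include hK hH in
/-- `H^i(Ψ K) ≅ Ψ(H^i K)`. -/
theorem isIso_homologyComparison (i : ℕ) : IsIso (RDer.homologyComparison Ψ K i) := by
  cases i with
  | zero =>
    haveI : IsIso (K.homologyπ 0) := K.isIso_homologyπ 0 0 (CochainComplex.prev_nat_zero) (K.shape _ _ (by simp))
    refine isIso_homologyComparison_of_cokernel Ψ K 0 0 CochainComplex.prev_nat_zero ?_ inferInstance
    refine (ShortComplex.exact_iff_mono _ ?_).2 inferInstance
    show Ψ.map (K.toCycles 0 0) = 0
    have h0 : K.toCycles 0 0 = 0 := by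
      rw [← cancel_mono (K.iCycles 0), zero_comp, toCycles_i, K.shape _ _ (by simp)]
    rw [h0, Ψ.map_zero]
  | succ n =>
    have hZ := TriCat.shortExact_map_of_subsingleton (F := Ψ) (zSeq_shortExact K n) (acyclic_cycles Ψ K hK hH n 1 one_pos)
    have hB := TriCat.shortExact_map_of_subsingleton (F := Ψ) (bdSeq_shortExact K (n + 1))
      (TriCat.acyclic₃ (zSeq_shortExact K n) (acyclic_cycles Ψ K hK hH n) (hK n) 1 one_pos)
    refine isIso_homologyComparison_of_cokernel Ψ K (n + 1) n (CochainComplex.prev_nat_succ n) ?_ hB.epi_g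
    haveI : Epi (Ψ.map (toBd K n)) := hZ.epi_g
    haveI : Mono (Ψ.map (kernel.ι (K.homologyπ (n + 1)))) := hB.mono_f
    let S₁ := ShortComplex.mk (Ψ.map (K.toCycles n (n + 1))) (Ψ.map (K.homologyπ (n + 1)))
      (by rw [← Ψ.map_comp, toCycles_comp_homologyπ, Ψ.map_zero])
    let φ : S₁ ⟶ (ShortComplex.mk (kernel.ι (K.homologyπ (n + 1))) (K.homologyπ (n + 1)) (kernel.condition _)).map Ψ :=
      { τ₁ := Ψ.map (toBd K n), τ₂ := 𝟙 _, τ₃ := 𝟙 _
        comm₁₂ := by
          show Ψ.map (toBd K n) ≫ Ψ.map (kernel.ι _) = Ψ.map (K.toCycles n (n + 1)) ≫ 𝟙 _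
          rw [Category.comp_id, ← Ψ.map_comp, kernel.lift_ι]
        comm₂₃ := by simp [S₁] }
    haveI : Epi φ.τ₁ := hZ.epi_g
    haveI : IsIso φ.τ₂ := inferInstanceAs (IsIso (𝟙 _))
    haveI : Mono φ.τ₃ := inferInstanceAs (Mono (𝟙 _))
    exact (ShortComplex.exact_iff_of_epi_of_isIso_of_mono φ).2 hB.exact

end Groth.Agent.CohPullX
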