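import Groth.Agent.CohPullX.Edge
import Mathlib.CategoryTheory.Preadditive.Injective.Basic
import Mathlib.CategoryTheory.Abelian.GrothendieckCategory.EnoughInjectives

/-!
# The edge map is injective in degree one
-/

set_option autoImplicit false
set_option backward.isDefEq.respectTransparency false
set_option backward.isDefEq.respectTransparency.types false

universe u

open CategoryTheory CategoryTheory.Limits AlgebraicGeometry TopologicalSpace Opposite
open CategoryTheory.Abelian (Ext)

namespace Groth.Agent.CohPullX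

open CohPull Groth.Agent

variable {X Y : TopCat.{u}} (f : X ⟶ Y)

/-- Compatibility of the edge map with connecting maps, along a comparison of sequences. -/
theorem edge_extClass' {S : ShortComplex (CohTop.Ab X)} (hS : S.ShortExact) {Q : CohTop.Ab Y}
    (π : (CohTop.push f).obj S.X₂ ⟶ Q) (w : (CohTop.push f).map S.f ≫ π = 0)
    (hT : (ShortComplex.mk _ π w).ShortExact) (ι : Q ⟶ (CohTop.push f).obj S.X₃)
    (hι : π ≫ ι = (CohTop.push f).map S.g) (p : ℕ) (x : Sheaf.H Q p) :
    edge f S.X₁ (p + 1) (x.comp hT.extClass rfl) = (edge f S.X₃ p (Sheaf.H.map ι p x)).comp hS.extClass rfl := by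
  let T := ShortComplex.mk _ π w
  have hI : (T.map (inv f)).ShortExact := hT.map_of_exact _
  let φ : T.map (inv f) ⟶ S :=
    { τ₁ := eps f S.X₁
      τ₂ := eps f S.X₂
      τ₃ := (inv f).map ι ≫ eps f S.X₃
      comm₁₂ := ((invPushAdj f).counit.naturality S.f).symm
      comm₂₃ := by
        show eps f S.X₂ ≫ S.g = (inv f).map π ≫ (inv f).map ι ≫ eps f S.X₃
        rw [← Category.assoc ((inv f).map π), ← (inv f).map_comp, hι]
        exact ((invPushAdj f).counit.naturality S.g).symm }
  have hn : hI.extClass.comp (Ext.mk₀ (eps f S.X₁)) (add_zero 1) =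
      (Ext.mk₀ ((inv f).map ι ≫ eps f S.X₃)).comp hS.extClass (zero_add 1) :=
    ShortComplex.ShortExact.extClass_naturality hI hS φ
  have hcl : hT.extClass.mapExactFunctor (inv f) = hI.extClass := Ext.mapExactFunctor_extClass _ hT
  show _ = ((((Ext.mk₀ (oneTo f)).comp ((x.comp (Ext.mk₀ ι) (add_zero p)).mapExactFunctor (inv f)) (zero_add p))).comp
    (Ext.mk₀ (eps f S.X₃)) (add_zero p)).comp hS.extClass rfl
  rw [edge_apply, Ext.mapExactFunctor_comp, hcl, Ext.mapExactFunctor_comp, Ext.mapExactFunctor_mk₀]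
  calc _ = ((Ext.mk₀ (oneTo f)).comp (x.mapExactFunctor (inv f)) (zero_add p)).comp
        (hI.extClass.comp (Ext.mk₀ (eps f S.X₁)) (add_zero 1)) rfl := by
          rw [← Ext.comp_assoc _ hI.extClass (Ext.mk₀ (eps f S.X₁)) rfl (add_zero 1) (by omega)]
          congr 1
          exact (Ext.comp_assoc _ _ _ (zero_add p) rfl (by omega)).symm
    _ = _ := by
          rw [hn, ← Ext.comp_assoc _ (Ext.mk₀ ((inv f).map ι ≫ eps f S.X₃)) hS.extClass (add_zero p) (zero_add 1) (by omega)]
          congr 1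
          rw [← Ext.mk₀_comp_mk₀, ← Ext.comp_assoc_of_third_deg_zero,
            Ext.comp_assoc_of_third_deg_zero (Ext.mk₀ (oneTo f))]

/-- `H¹(Y, f_* A) → H¹(X, A)` is injective. -/
theorem injective_edge_one (A : CohTop.Ab X) : Function.Injective (edge f A 1) := by
  let S := ShortComplex.mk (Injective.ι A) (cokernel.π (Injective.ι A)) (cokernel.condition _)
  have hS : S.ShortExact := { exact := ShortComplex.exact_of_g_is_cokernel _ (cokernelIsCokernel _) }
  haveI : PreservesLimitsOfSize.{0, 0} (CohTop.push f) := (invPushAdj f).rightAdjoint_preservesLimits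
  haveI : Mono ((CohTop.push f).map S.f) := (CohTop.push f).map_mono (Injective.ι A)
  haveI : Injective ((CohTop.push f).obj S.X₂) :=
    Injective.injective_of_adjoint (invPushAdj f) (Injective.under A)
  let π := cokernel.π ((CohTop.push f).map S.f)
  let T := ShortComplex.mk _ π (cokernel.condition _)
  have hT : T.ShortExact := { exact := ShortComplex.exact_of_g_is_cokernel _ (cokernelIsCokernel _) }
  have hw : (CohTop.push f).map S.f ≫ (CohTop.push f).map S.g = 0 := by
    rw [← Functor.map_comp, S.zero, Functor.map_zero]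
  let ι := cokernel.desc _ ((CohTop.push f).map S.g) hw
  haveI : Mono ι :=
    (ShortComplex.exact_iff_mono_cokernel_desc (ShortComplex.mk _ _ hw)).1
      (hS.exact.map_of_mono_of_preservesKernel (CohTop.push f) hS.mono_f inferInstance)
  refine (injective_iff_map_eq_zero _).2 fun y hy => ?_
  obtain ⟨q, rfl⟩ := Ext.covariant_sequence_exact₁ _ hT y (Ext.eq_zero_of_injective _) (zero_add 1)
  erw [edge_extClass' f hS π (cokernel.condition _) hT ι (cokernel.π_desc _ _ _) 0 q] at hy
  obtain ⟨r, hr⟩ := Ext.covariant_sequence_exact₃ _ hS _ (zero_add 1) hy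
  obtain ⟨r', rfl⟩ := (bijective_edge_zero f S.X₂).2 r
  have h1 : Sheaf.H.map ι 0 q = Sheaf.H.map ι 0 (Sheaf.H.map π 0 r') := by
    apply (bijective_edge_zero f S.X₃).1
    refine hr.symm.trans ((edge_naturality f S.g 0 r').symm.trans (congrArg (edge f S.X₃ 0) ?_))
    show r'.comp (Ext.mk₀ ((CohTop.push f).map S.g)) (add_zero 0) =
      (r'.comp (Ext.mk₀ π) (add_zero 0)).comp (Ext.mk₀ ι) (add_zero 0)
    rw [Ext.comp_assoc_of_third_deg_zero, Ext.mk₀_comp_mk₀, cokernel.π_desc]
  obtain ⟨a, rfl⟩ := (Ext.mk₀_bijective _ _).2 q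
  obtain ⟨b, rfl⟩ := (Ext.mk₀_bijective _ _).2 r'
  have h2 : Ext.mk₀ (a ≫ ι) = Ext.mk₀ ((b ≫ π) ≫ ι) := by
    rw [← Ext.mk₀_comp_mk₀, ← Ext.mk₀_comp_mk₀, ← Ext.mk₀_comp_mk₀]
    exact h1
  have h3 : a = b ≫ π := (cancel_mono ι).1 ((Ext.mk₀_bijective _ _).1 h2)
  have hw' : (Ext.mk₀ π).comp hT.extClass (zero_add 1) = 0 := hT.comp_extClass
  rw [h3, ← Ext.mk₀_comp_mk₀, Ext.comp_assoc _ _ _ (add_zero 0) (zero_add 1) (by omega), hw', Ext.comp_zero]

end Groth.Agent.CohPullX
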