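import Groth.Prelude.Def_CohPull
import Groth.Agent.QCoh.RpushGod
import Mathlib.Algebra.Homology.DerivedCategory.Ext.ExactSequences
import Mathlib.Algebra.Homology.DerivedCategory.Ext.Map

/-!
# The edge map `H^p(Y, f_* G) → H^p(X, G)` when the higher direct images vanish
-/

set_option autoImplicit false
set_option backward.isDefEq.respectTransparency false
set_option backward.isDefEq.respectTransparency.types false

universe u

open CategoryTheory CategoryTheory.Limits AlgebraicGeometry TopologicalSpace Opposite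
open CategoryTheory.Abelian (Ext)

namespace Groth.Agent.CohPullX

open CohPull Groth.Agent

section Top

variable {X Y : TopCat.{u}} (f : X ⟶ Y)

/-- The counit `f⁻¹ f_* A ⟶ A`. -/
noncomputable abbrev eps (A : CohTop.Ab X) : (inv f).obj ((CohTop.push f).obj A) ⟶ A :=
  (invPushAdj f).counit.app A

/-- The edge map of abelian sheaves. -/
noncomputable def edge (A : CohTop.Ab X) (p : ℕ) : Sheaf.H ((CohTop.push f).obj A) p →+ Sheaf.H A p :=
  (Sheaf.H.map (eps f A) p).comp (pullAb f ((CohTop.push f).obj A) p)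

theorem edge_apply (A : CohTop.Ab X) (p : ℕ) (x : Sheaf.H ((CohTop.push f).obj A) p) :
    edge f A p x = ((Ext.mk₀ (oneTo f)).comp (x.mapExactFunctor (inv f)) (zero_add p)).comp
      (Ext.mk₀ (eps f A)) (add_zero p) := rfl

theorem edge_naturality {A B : CohTop.Ab X} (φ : A ⟶ B) (p : ℕ) (x : Sheaf.H ((CohTop.push f).obj A) p) :
    edge f B p (Sheaf.H.map ((CohTop.push f).map φ) p x) = Sheaf.H.map φ p (edge f A p x) := by
  have h : (inv f).map ((CohTop.push f).map φ) ≫ eps f B = eps f A ≫ φ := (invPushAdj f).counit.naturality φ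
  show ((Ext.mk₀ (oneTo f)).comp ((x.comp (Ext.mk₀ ((CohTop.push f).map φ)) (add_zero p)).mapExactFunctor (inv f))
    (zero_add p)).comp (Ext.mk₀ (eps f B)) (add_zero p) = (edge f A p x).comp (Ext.mk₀ φ) (add_zero p)
  rw [edge_apply, Ext.mapExactFunctor_comp, Ext.mapExactFunctor_mk₀, Ext.comp_assoc_of_third_deg_zero,
    Ext.comp_assoc_of_third_deg_zero, Ext.mk₀_comp_mk₀, h, ← Ext.mk₀_comp_mk₀,
    Ext.comp_assoc_of_third_deg_zero, Ext.comp_assoc_of_third_deg_zero]

theorem edge_extClass {S : ShortComplex (CohTop.Ab X)} (hS : S.ShortExact)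
    (hT : (S.map (CohTop.push f)).ShortExact) (p : ℕ) (x : Sheaf.H ((CohTop.push f).obj S.X₃) p) :
    edge f S.X₁ (p + 1) (x.comp hT.extClass rfl) = (edge f S.X₃ p x).comp hS.extClass rfl := by
  have hI : ((S.map (CohTop.push f)).map (inv f)).ShortExact := hT.map_of_exact _
  let φ : (S.map (CohTop.push f)).map (inv f) ⟶ S :=
    { τ₁ := eps f S.X₁
      τ₂ := eps f S.X₂
      τ₃ := eps f S.X₃
      comm₁₂ := ((invPushAdj f).counit.naturality S.f).symm
      comm₂₃ := ((invPushAdj f).counit.naturality S.g).symm }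
  have hn : hI.extClass.comp (Ext.mk₀ (eps f S.X₁)) (add_zero 1) =
      (Ext.mk₀ (eps f S.X₃)).comp hS.extClass (zero_add 1) :=
    ShortComplex.ShortExact.extClass_naturality hI hS φ
  have hcl : hT.extClass.mapExactFunctor (inv f) = hI.extClass := Ext.mapExactFunctor_extClass _ hT
  rw [edge_apply, edge_apply, Ext.mapExactFunctor_comp, hcl]
  calc _ = ((Ext.mk₀ (oneTo f)).comp (x.mapExactFunctor (inv f)) (zero_add p)).comp
        (hI.extClass.comp (Ext.mk₀ (eps f S.X₁)) (add_zero 1)) rfl := by
          rw [← Ext.comp_assoc _ hI.extClass (Ext.mk₀ (eps f S.X₁)) rfl (add_zero 1) (by omega)]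
          congr 1
          exact (Ext.comp_assoc _ _ _ (zero_add p) rfl (by omega)).symm
    _ = _ := by
          rw [hn, ← Ext.comp_assoc _ (Ext.mk₀ (eps f S.X₃)) hS.extClass (add_zero p) (zero_add 1) (by omega)]

theorem bijective_edge_zero (A : CohTop.Ab X) : Function.Bijective (edge f A 0) := by
  let eY := Sheaf.H.equiv₀ ((CohTop.push f).obj A) (isTerminalTop : IsTerminal (⊤ : Opens Y))
  let eX := Sheaf.H.equiv₀ A (isTerminalTop : IsTerminal (⊤ : Opens X))
  have h : ∀ x, eX (edge f A 0 x) = eY x := fun x => by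
    refine (Sheaf.H.equiv₀_naturality isTerminalTop (eps f A) (pullAb f _ 0 x)).symm.trans ?_
    refine (congrArg (fun t => (eps f A).hom.app (op ⊤) t)
      (equiv₀_pullAb f ((CohTop.push f).obj A) x)).trans ?_
    exact congrArg (fun g : (CohTop.push f).obj A ⟶ (CohTop.push f).obj A => g.hom.app (op ⊤) (eY x))
      ((invPushAdj f).right_triangle_components A)
  have hb : Function.Bijective (⇑eX ∘ ⇑(edge f A 0)) := (funext h : ⇑eX ∘ ⇑(edge f A 0) = ⇑eY).symm ▸ eY.bijective
  exact (Function.Bijective.of_comp_iff' eX.bijective _).1 hb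

/-- Dimension shifting for the edge map. -/
theorem bijective_edge_succ {S : ShortComplex (CohTop.Ab X)} (hS : S.ShortExact)
    (hT : (S.map (CohTop.push f)).ShortExact) (p : ℕ)
    (hX : ∀ x : Sheaf.H S.X₂ (p + 1), x = 0) (hY : ∀ x : Sheaf.H ((CohTop.push f).obj S.X₂) (p + 1), x = 0)
    (h₂ : Function.Bijective (edge f S.X₂ p)) (h₃ : Function.Bijective (edge f S.X₃ p)) :
    Function.Bijective (edge f S.X₁ (p + 1)) := by
  constructor
  · refine (injective_iff_map_eq_zero _).2 fun y hy => ?_
    obtain ⟨q, rfl⟩ := Ext.covariant_sequence_exact₁ _ hT y (hY _) rfl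
    rw [edge_extClass f hS hT] at hy
    obtain ⟨r, hr⟩ := Ext.covariant_sequence_exact₃ _ hS _ rfl hy
    obtain ⟨r', rfl⟩ := h₂.2 r
    have hq : q = r'.comp (Ext.mk₀ ((CohTop.push f).map S.g)) (add_zero p) :=
      h₃.1 (((edge_naturality f S.g p r').trans hr).symm)
    have hw : (Ext.mk₀ ((CohTop.push f).map S.g)).comp hT.extClass (zero_add 1) = 0 := hT.comp_extClass
    rw [hq, Ext.comp_assoc r' _ hT.extClass (add_zero p) (zero_add 1) (by omega), hw, Ext.comp_zero]
  · intro x
    obtain ⟨q, rfl⟩ := Ext.covariant_sequence_exact₁ _ hS x (hX _) rfl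
    obtain ⟨q', rfl⟩ := h₃.2 q
    exact ⟨q'.comp hT.extClass rfl, edge_extClass f hS hT p q'⟩

theorem isFlasque_push {A : CohTop.Ab X} (h : TopCat.Sheaf.IsFlasque (X := X) A) :
    TopCat.Sheaf.IsFlasque (X := Y) ((CohTop.push f).obj A) where
  epi i := h.epi ((Opens.map f).map i.unop).op

end Top

section Sch

variable {X Y : Scheme.{u}} (f : X ⟶ Y)

theorem pushEdge_eq (G : X.Modules) (p : ℕ) (x : Coh.HH Y ((Scheme.Modules.pushforward f).obj G) p) :
    pushEdge f G p x = edge f.base (Coh.toAb G) p x := by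
  let ψ := (SheafOfModules.toSheaf X.ringCatSheaf).map ((Scheme.Modules.pullbackPushforwardAdjunction f).counit.app G)
  have h : theta f ((Scheme.Modules.pushforward f).obj G) ≫ ψ = eps f.base (Coh.toAb G) := by
    apply ((invPushAdj f.base).homEquiv _ _).injective
    rw [Adjunction.homEquiv_naturality_right, theta, Equiv.apply_symm_apply]
    refine Eq.trans ?_ (((invPushAdj f.base).homEquiv_unit _ _ _).trans
      ((invPushAdj f.base).right_triangle_components (Coh.toAb G))).symm
    exact ((SheafOfModules.toSheaf Y.ringCatSheaf).map_comp _ _).symm.trans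
      ((congrArg (SheafOfModules.toSheaf Y.ringCatSheaf).map
        ((Scheme.Modules.pullbackPushforwardAdjunction f).right_triangle_components G)).trans
        ((SheafOfModules.toSheaf Y.ringCatSheaf).map_id _))
  show ((pullAb f.base _ p x).comp (Ext.mk₀ (theta f _)) (add_zero p)).comp (Ext.mk₀ ψ) (add_zero p) = _
  rw [Ext.comp_assoc_of_third_deg_zero, Ext.mk₀_comp_mk₀, h]
  rfl

theorem subsingleton_H_of_flasque (M : X.Modules) (hM : QCoh.IsFlasqueMod M) (p : ℕ) :
    Subsingleton (Coh.HH X M (p + 1)) :=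
  haveI := hM
  QCoh.Ab.subsingleton_H_of_HU_top (X := X.toPresheafedSpace.carrier) (QCoh.abSheaf M) (p + 1)
    (SiteBase.subsingleton_HU_of_isFlasque (X := X.toPresheafedSpace.carrier) (QCoh.abSheaf M) ⊤ p)

/-- The edge map is bijective when the higher direct images vanish. -/
theorem bijective_pushEdge [HasInjectiveResolutions X.Modules] :
    ∀ (p : ℕ) (G : X.Modules), (∀ q : ℕ, 0 < q → IsZero ((Coh.Rpush f q).obj G)) →
      Function.Bijective (pushEdge f G p) := by
  haveI := SpObjSS.enoughInjectives_of_hasInjectiveResolutions (C := X.Modules)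
  haveI := QCoh.preservesFiniteLimits_push f
  suffices H : ∀ (p : ℕ) (G : X.Modules), (∀ q : ℕ, 0 < q → IsZero ((Coh.Rpush f q).obj G)) →
      Function.Bijective (edge f.base (Coh.toAb G) p) by
    intro p G hG
    rw [show ⇑(pushEdge f G p) = edge f.base (Coh.toAb G) p from funext (pushEdge_eq f G p)]
    exact H p G hG
  intro p
  induction p with
  | zero => exact fun G _ => bijective_edge_zero f.base (Coh.toAb G)
  | succ p ih =>
    intro G hG
    let S := ShortComplex.mk (Injective.ι G) (cokernel.π (Injective.ι G)) (cokernel.condition _)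
    have hS : S.ShortExact := { exact := ShortComplex.exact_of_g_is_cokernel _ (cokernelIsCokernel _) }
    have hI : QCoh.IsFlasqueMod S.X₂ := QCoh.isFlasqueMod_of_injective (Injective.under G)
    have hI' : ∀ q : ℕ, 0 < q → IsZero ((Coh.Rpush f q).obj S.X₂) := fun q hq => by
      obtain ⟨i, rfl⟩ : ∃ i, q = i + 1 := ⟨q - 1, by omega⟩
      exact QCoh.isZero_Rpush_of_flasque f _ hI i
    have hQ : ∀ q : ℕ, 0 < q → IsZero ((Coh.Rpush f q).obj S.X₃) := fun q hq => by
      obtain ⟨i, rfl⟩ : ∃ i, q = i + 1 := ⟨q - 1, by omega⟩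
      obtain ⟨e⟩ := QCoh.nonempty_shift_iso (Scheme.Modules.pushforward f) hS i
        (hI' _ (by omega)) (hI' _ (by omega))
      exact (hG (i + 2) (by omega)).of_iso e
    haveI : Epi ((Scheme.Modules.pushforward f).map S.g) := by
      obtain ⟨e⟩ := QCoh.nonempty_R1_iso (Scheme.Modules.pushforward f) hS (hI' 1 one_pos)
      exact Preadditive.epi_of_isZero_cokernel _ ((hG 1 one_pos).of_iso e.symm)
    haveI := hS.mono_f
    have hPS : (S.map (Scheme.Modules.pushforward f)).ShortExact :=
      { exact := hS.exact.map_of_mono_of_preservesKernel _ hS.mono_f inferInstance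
        mono_f := inferInstanceAs (Mono ((Scheme.Modules.pushforward f).map S.f))
        epi_g := ‹_› }
    refine bijective_edge_succ f.base (QCoh.toAb_shortExact hS) (QCoh.toAb_shortExact hPS) p
      (fun x => ?_) (fun x => ?_) (ih _ hI') (ih _ hQ)
    · exact @Subsingleton.elim _ (subsingleton_H_of_flasque _ hI p) x 0
    · exact @Subsingleton.elim _ (subsingleton_H_of_flasque ((Scheme.Modules.pushforward f).obj S.X₂)
        (isFlasque_push f.base hI) p) x 0

end Sch

end Groth.Agent.CohPullX
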