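import Groth.Agent.CohPullX.FpModelT

/-!
# Exchange for finite free complexes over an arbitrary ring
-/

set_option autoImplicit false
set_option linter.style.haveILetI false
set_option linter.unusedSectionVars false
set_option backward.isDefEq.respectTransparency false
set_option backward.isDefEq.respectTransparency.types false
set_option maxHeartbeats 1000000

universe u

open CategoryTheory CategoryTheory.Limits
open scoped TensorProduct

namespace Groth.Agent.CohPullX

open Groth.Agent

variable {A : Type u} [CommRing A] (P : ChainComplex (ModuleCat.{u} A) ℤ)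

theorem free_fp_bcCx_X {B : Type u} [CommRing B] (φ : A →+* B) (i : ℤ) (hfin : Module.Finite A (P.X i))
    (hfree : Module.Free A (P.X i)) :
    Module.Free B ((CohIII.bcCx φ P).X i) ∧ Module.FinitePresentation B ((CohIII.bcCx φ P).X i) := by
  letI := φ.toAlgebra
  haveI : Module.FinitePresentation A (P.X i) := Module.finitePresentation_of_projective A _
  exact ⟨inferInstanceAs (Module.Free B (B ⊗[A] P.X i)),
    inferInstanceAs (Module.FinitePresentation B (B ⊗[A] P.X i))⟩

/-- Right exactness over a localization at a prime spreads out. -/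
theorem exists_flat_coker_away (hfin : ∀ i, Module.Finite A (P.X i)) (hfree : ∀ i, Module.Free A (P.X i))
    (x : PrimeSpectrum A) (q : ℤ)
    (h : (CohIII.TFun (QCoh.locCx P x) q).PreservesEpimorphisms) :
    ∃ r ∉ x.asIdeal, ∀ (B : Type u) [CommRing B] (φ : A →+* B), IsUnit (φ r) →
      Module.Flat B (FlatCxLib.Coker (CohIII.bcCx φ P) q (q - 1)) := by
  have hflat : ∀ i, Module.Flat A (P.X i) := fun i => @Module.Flat.of_free _ _ _ _ _ (hfree i)
  have hr : q - 1 + 1 = q := by lia
  let Ax := Localization.AtPrime x.asIdeal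
  haveI := hfin q
  haveI := hfin (q - 1)
  haveI := hfree (q - 1)
  haveI : Module.FinitePresentation A (P.X (q - 1)) := Module.finitePresentation_of_projective A _
  haveI : Module.Flat Ax (Ax ⊗[A] FlatCxLib.Coker P q (q - 1)) :=
    (FlatCxLib.preservesEpi_bcCx_iff P hflat hr).1 h
  haveI : Module.FinitePresentation A (FlatCxLib.Coker P q (q - 1)) :=
    Module.finitePresentation_of_surjective (LinearMap.range (P.d q (q - 1)).hom).mkQ
      (Submodule.mkQ_surjective _)
      (by rw [Submodule.ker_mkQ, LinearMap.range_eq_map]; exact (Module.Finite.fg_top).map _)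
  haveI : Module.Free Ax (Ax ⊗[A] FlatCxLib.Coker P q (q - 1)) := Module.free_of_flat_of_isLocalRing
  obtain ⟨r, hr', hK⟩ := exists_free_away (FlatCxLib.Coker P q (q - 1)) x
  refine ⟨r, hr', fun B _ φ hu => ?_⟩
  letI := φ.toAlgebra
  obtain ⟨eK⟩ := hK B hu
  exact (FlatCxLib.flat_coker_bcCx_iff (A := A) P (B := B) q (q - 1)).2 (Module.Flat.of_linearEquiv eK)

/-- Exactness over a localization at a prime gives free homology after inverting an element. -/
theorem exists_free_homology_bc' (hfin : ∀ i, Module.Finite A (P.X i)) (hfree : ∀ i, Module.Free A (P.X i))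
    (x : PrimeSpectrum A) (q : ℤ)
    (h₀ : (CohIII.TFun (QCoh.locCx P x) q).PreservesEpimorphisms)
    (h₁ : (CohIII.TFun (QCoh.locCx P x) (q + 1)).PreservesEpimorphisms) :
    ∃ r ∉ x.asIdeal, ∃ n : ℕ, ∀ (B : Type u) [CommRing B] (φ : A →+* B), IsUnit (φ r) →
      Nonempty ((CohIII.bcCx φ P).homology q ≃ₗ[B] (ULift.{u} (Fin n) →₀ B)) := by
  have hflat : ∀ i, Module.Flat A (P.X i) := fun i => @Module.Flat.of_free _ _ _ _ _ (hfree i)
  have hr : q - 1 + 1 = q := by lia
  obtain ⟨r₁, hr₁, hc₀⟩ := exists_flat_coker_away P hfin hfree x q h₀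
  obtain ⟨r₂, hr₂, hc₁⟩ := exists_flat_coker_away P hfin hfree x (q + 1) h₁
  rw [add_sub_cancel_right] at hc₁
  let L := Localization.Away (r₁ * r₂)
  have hL := IsLocalization.Away.algebraMap_isUnit (S := L) (r₁ * r₂)
  rw [map_mul] at hL
  let P' := CohIII.bcCx (algebraMap A L) P
  haveI := hc₀ L (algebraMap A L) (isUnit_of_mul_isUnit_left hL)
  haveI := hc₁ L (algebraMap A L) (isUnit_of_mul_isUnit_right hL)
  have hfl' : ∀ i, Module.Flat L (P'.X i) := FlatCxLib.flat_bcCx_X P hflat
  haveI hF : Module.Flat L (FlatCxLib.Hom' P' (q + 1) q (q - 1)) :=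
    (FlatCxLib.flat_coker_iff P' (q + 1) q (q - 1) hfl').1 ‹_›
  -- the homology is finite projective
  haveI : Module.Finite L (P'.X q) := QCoh.finite_bcCx_X_aux P _ hfin q
  haveI : Module.Finite L (P'.X (q - 1)) := QCoh.finite_bcCx_X_aux P _ hfin (q - 1)
  haveI : Module.Finite L (P'.X (q + 1)) := QCoh.finite_bcCx_X_aux P _ hfin (q + 1)
  have hfp : ∀ i, Module.FinitePresentation L (P'.X i) := fun i =>
    (free_fp_bcCx_X P (algebraMap A L) i (hfin i) (hfree i)).2
  haveI := hfp q
  haveI := hfp (q - 1)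
  haveI : Module.FinitePresentation L (FlatCxLib.Coker P' q (q - 1)) :=
    Module.finitePresentation_of_surjective (LinearMap.range (P'.d q (q - 1)).hom).mkQ
      (Submodule.mkQ_surjective _)
      (by rw [Submodule.ker_mkQ, LinearMap.range_eq_map]; exact (Module.Finite.fg_top).map _)
  haveI : Module.FinitePresentation L (FlatCxLib.Coker P' (q + 1) q) :=
    Module.finitePresentation_of_surjective (LinearMap.range (P'.d (q + 1) q).hom).mkQ
      (Submodule.mkQ_surjective _)
      (by rw [Submodule.ker_mkQ, LinearMap.range_eq_map]; exact (Module.Finite.fg_top).map _)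
  haveI : Module.Flat L (LinearMap.range (P'.d q (q - 1)).hom) := FlatCxLib.flat_range P' q (q - 1) hfl'
  haveI : Module.Projective L (LinearMap.range (P'.d q (q - 1)).hom) := by
    haveI : Module.Free L (P'.X (q - 1)) :=
      (free_fp_bcCx_X P (algebraMap A L) (q - 1) (hfin _) (hfree _)).1
    haveI : Module.Projective L (FlatCxLib.Coker P' q (q - 1)) := Module.Flat.projective_of_finitePresentation
    obtain ⟨s, hs⟩ := Module.projective_lifting_property (LinearMap.range (P'.d q (q - 1)).hom).mkQ
      LinearMap.id (Submodule.mkQ_surjective _)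
    refine .of_split (LinearMap.range (P'.d q (q - 1)).hom).subtype
      ((LinearMap.id - s ∘ₗ (LinearMap.range (P'.d q (q - 1)).hom).mkQ).codRestrict _ fun z => ?_) ?_
    · refine LinearMap.ext fun z => Subtype.ext ?_
      show z.1 - s (Submodule.Quotient.mk z.1) = z.1
      rw [(Submodule.Quotient.mk_eq_zero _).2 z.2, map_zero, sub_zero]
    · rw [← Submodule.Quotient.mk_eq_zero]
      show Submodule.Quotient.mk (z - s (Submodule.Quotient.mk z)) = 0
      rw [Submodule.Quotient.mk_sub, sub_eq_zero]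
      exact (LinearMap.congr_fun hs (Submodule.Quotient.mk z)).symm
  haveI : Module.Projective L (FlatCxLib.Coker P' (q + 1) q) := Module.Flat.projective_of_finitePresentation
  haveI : Module.Projective L (LinearMap.range (FlatCxLib.cokerDesc P' (q + 1) q (q - 1))) := by
    rw [FlatCxLib.range_cokerDesc]; infer_instance
  obtain ⟨s₀, hs₀⟩ := Module.projective_lifting_property (FlatCxLib.cokerDesc P' (q + 1) q (q - 1)).rangeRestrict
    LinearMap.id (LinearMap.surjective_rangeRestrict _)
  obtain ⟨e, he₀, -⟩ := (FlatCxLib.exact_hom'ToCoker P' (q + 1) q (q - 1)).splitSurjectiveEquiv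
    (FlatCxLib.hom'ToCoker_injective P' (q + 1) q (q - 1)) ⟨s₀, hs₀⟩
  haveI : Module.Finite L (FlatCxLib.Hom' P' (q + 1) q (q - 1)) :=
    Module.Finite.of_surjective ((LinearMap.fst L _ _).comp e.toLinearMap)
      (fun z => ⟨e.symm (z, 0), by simp⟩)
  haveI : Module.Projective L (FlatCxLib.Hom' P' (q + 1) q (q - 1)) :=
    .of_split (e.symm.toLinearMap.comp (LinearMap.inl L _ _))
      ((LinearMap.fst L _ _).comp e.toLinearMap)
      (LinearMap.ext fun z => by simp)
  haveI : Module.FinitePresentation L (FlatCxLib.Hom' P' (q + 1) q (q - 1)) :=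
    Module.finitePresentation_of_projective L _
  let eP : FlatCxLib.Hom' P' (q + 1) q (q - 1) ≃ₗ[L] P'.homology q := FlatCxLib.hom'Equiv rfl hr
  -- free at the prime
  let Ax := Localization.AtPrime x.asIdeal
  let lx : L →+* Ax := IsLocalization.Away.lift (r₁ * r₂)
    (IsLocalization.map_units (S := Ax) (⟨r₁ * r₂, fun hm => (x.isPrime.mem_or_mem hm).elim hr₁ hr₂⟩ : x.asIdeal.primeCompl))
  let xL : PrimeSpectrum L := PrimeSpectrum.comap lx (IsLocalRing.closedPoint Ax)
  haveI : Module.Free (Localization.AtPrime xL.asIdeal)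
      (Localization.AtPrime xL.asIdeal ⊗[L] FlatCxLib.Hom' P' (q + 1) q (q - 1)) :=
    @Module.free_of_flat_of_isLocalRing (R := Localization.AtPrime xL.asIdeal)
      (P := Localization.AtPrime xL.asIdeal ⊗[L] FlatCxLib.Hom' P' (q + 1) q (q - 1)) _ _ _ _ _ _
  obtain ⟨s, hs, hfree'⟩ := exists_free_away (FlatCxLib.Hom' P' (q + 1) q (q - 1)) xL
  obtain ⟨⟨a, m, hm⟩, he⟩ := IsLocalization.surj (Submonoid.powers (r₁ * r₂)) s
  have hxm : algebraMap A L m ∉ xL.asIdeal := fun h =>
    xL.isPrime.ne_top (Ideal.eq_top_of_isUnit_mem _ h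
      (IsLocalization.map_units L (⟨m, hm⟩ : Submonoid.powers (r₁ * r₂))))
  have ha : a ∉ x.asIdeal := fun ha => by
    have h1 : algebraMap A L a ∈ xL.asIdeal := by
      show lx (algebraMap A L a) ∈ IsLocalRing.maximalIdeal Ax
      rw [show lx (algebraMap A L a) = algebraMap A Ax a from IsLocalization.Away.lift_eq _ _ a]
      exact (IsLocalization.AtPrime.to_map_mem_maximal_iff Ax x.asIdeal a).2 ha
    exact (xL.isPrime.mem_or_mem (he ▸ h1)).elim hs hxm
  refine ⟨r₁ * r₂ * a, fun hm => (x.isPrime.mem_or_mem hm).elim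
    (fun h => (x.isPrime.mem_or_mem h).elim hr₁ hr₂) ha,
    Module.finrank (Localization.AtPrime xL.asIdeal)
      (Localization.AtPrime xL.asIdeal ⊗[L] FlatCxLib.Hom' P' (q + 1) q (q - 1)), fun B _ φ hu => ?_⟩
  rw [map_mul] at hu
  let τ : L →+* B := IsLocalization.Away.lift (r₁ * r₂) (isUnit_of_mul_isUnit_left hu)
  have hτ : φ = τ.comp (algebraMap A L) :=
    (IsLocalization.Away.lift_comp (S := L) (r₁ * r₂) (isUnit_of_mul_isUnit_left hu)).symm
  have hu' : IsUnit (τ s) := by
    have : τ (algebraMap A L a) = φ a := (RingHom.congr_fun hτ a).symm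
    rw [← he, map_mul] at this
    exact isUnit_of_mul_isUnit_left (y := τ (algebraMap A L m)) (this ▸ isUnit_of_mul_isUnit_right hu)
  letI := τ.toAlgebra
  obtain ⟨eB⟩ := FlatCxLib.nonempty_homology_bcCx_equiv P' (B := B) hfl'
    (show q + 1 = q + 1 from rfl) hr
  obtain ⟨ef⟩ := hfree' B hu'
  let E : CohIII.bcCx φ P ≅ CohIII.bcCx (algebraMap L B) P' :=
    HomologicalComplex.Hom.isoOfComponents
      (fun n => (eqToIso (congrArg ModuleCat.extendScalars hτ) ≪≫
        ModuleCat.extendScalarsComp (algebraMap A L) (algebraMap L B)).app (P.X n))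
      (fun a b _ => ((eqToIso (congrArg ModuleCat.extendScalars hτ) ≪≫
        ModuleCat.extendScalarsComp (algebraMap A L) (algebraMap L B)).hom.naturality (P.d a b)).symm)
  exact ⟨((HomologicalComplex.homologyFunctor _ _ q).mapIso E).toLinearEquiv.trans (eB.symm.trans ef)⟩

end Groth.Agent.CohPullX
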