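import Groth.Agent.CohPullX.DegreeZero
import Groth.Agent.CohPullX.FreeExchange

/-!
# Surjectivity of the base change map to a fibre in degree zero
-/

set_option autoImplicit false
set_option linter.style.haveILetI false
set_option linter.unusedSectionVars false
set_option backward.isDefEq.respectTransparency false
set_option backward.isDefEq.respectTransparency.types false
set_option maxHeartbeats 2000000

universe u

open CategoryTheory CategoryTheory.Limits AlgebraicGeometry TopologicalSpace Opposite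
open scoped TensorProduct

namespace Groth.Agent.CohPullX

open Groth.Agent

section Alg

variable {A : Type u} [CommRing A]

theorem surjective_map_of_forget_iso {T T' : ModuleCat.{u} A ⥤ ModuleCat.{u} A}
    (e : T ⋙ forget₂ (ModuleCat.{u} A) AddCommGrpCat.{u} ≅ T' ⋙ forget₂ (ModuleCat.{u} A) AddCommGrpCat.{u})
    {M N : ModuleCat.{u} A} (f : M ⟶ N) (h : Function.Surjective (T.map f).hom) :
    Function.Surjective (T'.map f).hom := by
  intro y
  obtain ⟨x, hx⟩ := h ((e.app N).addCommGroupIsoToAddEquiv.symm y)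
  refine ⟨(e.app M).addCommGroupIsoToAddEquiv x, ?_⟩
  refine (ConcreteCategory.congr_hom (e.hom.naturality f) x).symm.trans ?_
  exact (congrArg (e.app N).addCommGroupIsoToAddEquiv hx).trans
    ((e.app N).addCommGroupIsoToAddEquiv.apply_symm_apply y)

/-- If kernels lift modulo `q`, then `T⁰` of `q` is surjective. -/
theorem surjective_tfun_of_ker_lift (K : CochainComplex (ModuleCat.{u} A) ℕ) {M : Type u} [AddCommGroup M]
    [Module A M] (R : M →ₗ[A] K.X 0) (hR : ∀ m, (K.d 0 1).hom (R m) = 0) {L B : ModuleCat.{u} A} (q : L ⟶ B)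
    (hq : Function.Surjective q.hom)
    (hlift : ∀ y : K.X 0 ⊗[A] B, (K.d 0 1).hom.rTensor B y = 0 → ∃ w : M ⊗[A] B, R.rTensor B w = y) :
    Function.Surjective ((CohIII.TFun K 0).map q).hom := by
  have hi : (ComplexShape.up ℕ).prev 0 = 0 := CochainComplex.prev_nat_zero
  have hk : (ComplexShape.up ℕ).next 0 = 1 := CochainComplex.next ℕ 0
  show Function.Surjective (HomologicalComplex.homologyMap (CohIII.tensorMap K q) 0).hom
  rw [FlatCxLib.homologyMap_surjective_iff _ hi hk]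
  intro y hy
  obtain ⟨w, hw⟩ := hlift y hy
  obtain ⟨w', hw'⟩ := LinearMap.lTensor_surjective M hq w
  refine ⟨R.rTensor L w', ?_, ?_⟩
  · show (K.d 0 1).hom.rTensor L (R.rTensor L w') = 0
    rw [← LinearMap.comp_apply, ← LinearMap.rTensor_comp,
      show (K.d 0 1).hom ∘ₗ R = 0 from LinearMap.ext hR, LinearMap.rTensor_zero]
    rfl
  · refine ⟨0, ?_⟩
    rw [map_zero, eq_comm, sub_eq_zero]
    show q.hom.lTensor (K.X 0) (R.rTensor L w') = y
    rw [← hw, ← hw', ← LinearMap.comp_apply, ← LinearMap.comp_apply, LinearMap.lTensor_comp_rTensor,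
      LinearMap.rTensor_comp_lTensor]

end Alg

theorem appLE_fromSpec_self {S : Scheme.{u}} {V : S.Opens} (hV : IsAffineOpen V) (e : ⊤ ≤ hV.fromSpec ⁻¹ᵁ V) :
    hV.fromSpec.appLE V ⊤ e = (Scheme.ΓSpecIso Γ(S, V)).inv := by
  rw [Scheme.Hom.appLE, hV.fromSpec_app_self, Category.assoc, ← Functor.map_comp,
    ← op_comp, Subsingleton.elim (_ ≫ _) (𝟙 (⊤ : (Spec Γ(S, V)).Opens)), op_id,
    CategoryTheory.Functor.map_id, Category.comp_id]

theorem appLE_SpecMap_fromSpec {S : Scheme.{u}} {V : S.Opens} (hV : IsAffineOpen V) {R : CommRingCat.{u}}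
    (φ : Γ(S, V) ⟶ R) (h : Spec R ⟶ S) (hh : Spec.map φ ≫ hV.fromSpec = h) (hle : ⊤ ≤ h ⁻¹ᵁ V) :
    h.appLE V ⊤ hle = φ ≫ (Scheme.ΓSpecIso R).inv := by
  subst hh
  have e : (⊤ : (Spec R).Opens) ≤ (Spec.map φ) ⁻¹ᵁ ⊤ := fun _ h => h
  rw [← Scheme.Hom.appLE_comp_appLE (Spec.map φ) hV.fromSpec V ⊤ ⊤ hV.fromSpec_preimage_self.ge e,
    appLE_fromSpec_self, Scheme.ΓSpecIso_inv_naturality]
  exact congrArg (_ ≫ ·) (Scheme.Hom.appLE_eq_app (Spec.map φ))

theorem fromSpecResidueField_appLE {S : Scheme.{u}} {V : S.Opens} (hV : IsAffineOpen V) (y : S) (hy : y ∈ V)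
    (hle : ⊤ ≤ S.fromSpecResidueField y ⁻¹ᵁ V) :
    (S.fromSpecResidueField y).appLE V ⊤ hle = S.evaluation V y hy ≫ (Scheme.ΓSpecIso (S.residueField y)).inv := by
  refine appLE_SpecMap_fromSpec hV _ _ ?_ hle
  show Spec.map (S.presheaf.germ V y hy ≫ S.residue y) ≫ _ = _
  rw [Spec.map_comp, Category.assoc, Scheme.fromSpecResidueField]
  exact congrArg (Spec.map (S.residue y) ≫ ·) (hV.fromSpecStalk_eq_fromSpecStalk hy)

variable {X S : Scheme.{u}} {f : X ⟶ S} {M : X.Modules}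

/-- Base change to a fibre, on sections over an affine open: generated by pulled back sections. -/
theorem exists_sum_pullSec_of_epi_bc0 [QuasiCompact f] [QuasiSeparated f] (hM : Coh.IsQCoh M) (y : S)
    (hs : Epi (CohBC.bc0 f (S.fromSpecResidueField y) (f.fiberToSpecResidueField y) (f.fiberι y) (f.fiber_fac y) M))
    {U : S.Opens} (hU : IsAffineOpen U) (hle : ⊤ ≤ S.fromSpecResidueField y ⁻¹ᵁ U)
    (hle' : f.fiberToSpecResidueField y ⁻¹ᵁ ⊤ ≤ f.fiberι y ⁻¹ᵁ (f ⁻¹ᵁ U))
    (z : Γ((Scheme.Modules.pullback (f.fiberι y)).obj M, f.fiberToSpecResidueField y ⁻¹ᵁ ⊤)) :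
    letI : Module Γ(Spec (S.residueField y), ⊤)
        Γ((Scheme.Modules.pullback (f.fiberι y)).obj M, f.fiberToSpecResidueField y ⁻¹ᵁ ⊤) :=
      Module.compHom _ ((f.fiberToSpecResidueField y).app ⊤).hom
    ∃ (n : ℕ) (b : Fin n → Γ(Spec (S.residueField y), ⊤)) (x : Fin n → Γ(M, f ⁻¹ᵁ U)),
      ∑ i, b i • QCoh.pullSec (f.fiberι y) M hle' (x i) = z := by
  let g := S.fromSpecResidueField y
  let p := f.fiberToSpecResidueField y
  let P := (Scheme.Modules.pullback (f.fiberι y)).obj M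
  letI : Module Γ(Spec (S.residueField y), ⊤) Γ(P, p ⁻¹ᵁ ⊤) := Module.compHom _ (p.app ⊤).hom
  haveI : QuasiCompact p := MorphismProperty.of_isPullback (IsPullback.of_hasPullback _ _) ‹QuasiCompact f›
  haveI : QuasiSeparated p := MorphismProperty.of_isPullback (IsPullback.of_hasPullback _ _) ‹QuasiSeparated f›
  let β := CohBC.bc0 f g p (f.fiberι y) (f.fiber_fac y) M
  haveI : Epi β := hs
  have hG := QCoh.isQCoh_pushforward f hM
  let G := (Scheme.Modules.pullback g).obj ((Scheme.Modules.pushforward f).obj M)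
  have hsurj : Function.Surjective (β.app ⊤) :=
    QCoh.app_surjective_of_epi (QCoh.isQCoh_pullback g hG)
      (QCoh.isQCoh_pushforward p (QCoh.isQCoh_pullback _ hM)) β (isAffineOpen_top _)
  obtain ⟨u, hu⟩ := hsurj z
  letI : Algebra Γ(S, U) Γ(Spec (S.residueField y), ⊤) := (g.appLE U ⊤ hle).hom.toAlgebra
  letI : Module Γ(S, U) Γ(G, ⊤) := Module.compHom _ (algebraMap Γ(S, U) Γ(Spec (S.residueField y), ⊤))
  haveI : IsScalarTower Γ(S, U) Γ(Spec (S.residueField y), ⊤) Γ(G, ⊤) := .of_algebraMap_smul fun _ _ => rfl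
  let l₁ : Γ((Scheme.Modules.pushforward f).obj M, U) →ₗ[Γ(S, U)] Γ(G, ⊤) :=
    { toFun := QCoh.pullSec g _ hle
      map_add' := QCoh.pullSec_add g _ hle
      map_smul' := fun r x => QCoh.pullSec_smul g _ hle r x }
  have hb₁ : IsBaseChange Γ(Spec (S.residueField y), ⊤) l₁ :=
    QCoh.isBaseChange_pullback hU g (isAffineOpen_top _) hG hle (fun _ => rfl) l₁ fun _ => rfl
  obtain ⟨t, rfl⟩ := hb₁.equiv.surjective u
  obtain ⟨s, rfl⟩ := TensorProduct.exists_finset (R := Γ(S, U)) t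
  refine ⟨s.card, fun i => (s.equivFin.symm i).1.1, fun i => (s.equivFin.symm i).1.2, ?_⟩
  rw [← hu, map_sum]
  refine Eq.trans ?_ (map_sum (β.app ⊤).hom _ _).symm
  rw [← Finset.sum_coe_sort s]
  refine Fintype.sum_equiv s.equivFin.symm _ _ fun i => ?_
  rw [hb₁.equiv_tmul]
  refine Eq.trans ?_ (Scheme.Modules.Hom.app_smul β _ _).symm
  exact congrArg (fun w : Γ((Scheme.Modules.pushforward p).obj P, ⊤) => (s.equivFin.symm i).1.1 • w)
    (bc0_app_pullSec (f := f) (g := g) (g' := f.fiberι y) (f' := p) (f.fiber_fac y) M U ⊤ hle hle'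
      (s.equivFin.symm i).1.2).symm

variable [HasInjectiveResolutions X.Modules]

/-- The model has no cohomology in negative degrees after base change to the affine open. -/
theorem IsFpModel.isZero_T_bc {V : S.Opens} {hV : IsAffineOpen V} {A₀ : Type u} [CommRing A₀]
    {φ : A₀ →+* Γ(S, V)} {P : ChainComplex (ModuleCat.{u} A₀) ℤ} (hP : IsFpModel f M hV φ P) :
    ∀ n : ℤ, 0 < n → ∀ N : ModuleCat.{u} Γ(S, V), IsZero (CohIII.T (CohIII.bcCx φ P) n N) := fun n hn N => by
  obtain ⟨b⟩ := QCoh.nonempty_bcT_iso P φ n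
  have hs₀ : Subsingleton ((CohIII.TFun P n).obj ((ModuleCat.restrictScalars φ).obj N)) :=
    ModuleCat.isZero_iff_subsingleton.1 (hP.2.2.2.1 n hn _)
  exact ModuleCat.isZero_iff_subsingleton.2
    (@Equiv.subsingleton _ _ (b.app N).addCommGroupIsoToAddEquiv.toEquiv hs₀)

variable [IsProper f] [LocallyOfFinitePresentation f]
  (hfp : CohB1.IsFP M) (hfl : FlatMod.IsFlatOver f M)

include hfp hfl

/-- Surjectivity of the base change map to the fibre makes `T⁰` of the model right exact at the point. -/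
theorem preservesEpi_locCx_of_epi {V : S.Opens} (hV' : IsAffineOpen V) {A₀ : Type u} [CommRing A₀]
    [IsNoetherianRing A₀] {φ : A₀ →+* Γ(S, V)} {P : ChainComplex (ModuleCat.{u} A₀) ℤ}
    (hP : IsFpModel f M hV' φ P) {X₀ : Scheme.{u}} [X₀.Over (Spec (CommRingCat.of A₀))]
    [IsProper (X₀ ↘ Spec (CommRingCat.of A₀))] {F₀ : X₀.Modules} (hF₀ : Coh.IsQCoh F₀)
    (hP₀ : QCoh.IsBCModel F₀ P) {gm : ((f ⁻¹ᵁ V : X.Opens) : Scheme.{u}) ⟶ X₀}
    (hsq : IsPullback gm (QCoh.overSpec f hV') (X₀ ↘ Spec (CommRingCat.of A₀)) (Spec.map (CommRingCat.ofHom φ)))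
    (em : (Scheme.Modules.pullback gm).obj F₀ ≅ (Scheme.Modules.pullback (f ⁻¹ᵁ V).ι).obj M)
    {y : S} (hy : y ∈ V)
    (hs : Epi (CohBC.bc0 f (S.fromSpecResidueField y) (f.fiberToSpecResidueField y) (f.fiberι y) (f.fiber_fac y) M)) :
    (CohIII.TFun (QCoh.locCx (CohIII.bcCx φ P) (hV'.primeIdealOf ⟨y, hy⟩))
      (-((0 : ℕ) : ℤ))).PreservesEpimorphisms := by
  have hM := QCoh.isQCoh_of_isFP hfp
  let A := Γ(S, V)
  let PA := CohIII.bcCx φ P
  let xy : PrimeSpectrum A := hV'.primeIdealOf ⟨y, hy⟩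
  let O : X.Opens := f ⁻¹ᵁ V
  letI : (O : Scheme.{u}).Over (Spec (CommRingCat.of A)) := ⟨QCoh.overSpec f hV'⟩
  obtain ⟨κ, _, Wc, hcov, hWc, -, O₀, O₁, α, β, hα, hβ, hO₀, -, hc₀, hpair, e₀, e₁, key⟩ :=
    exists_cech_coords (f := f) (M := M) hM hfl hV'
  let N := M.restrict O.ι
  let K := QCoh.cechA (A := A) N Wc
  -- the natural comparison of the model with the Čech complex
  obtain ⟨i₁⟩ := QCoh.nonempty_tfun_iso (A := A) N (QCoh.isQCoh_restrict O.ι hM) hcov hWc 0
  have hid : IsPullback O.ι ((O : Scheme.{u}) ↘ Spec (CommRingCat.of A)) f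
      (Spec.map (CommRingCat.ofHom (RingHom.id A)) ≫ hV'.fromSpec) := by
    rw [show CommRingCat.ofHom (RingHom.id Γ(S, V)) = 𝟙 _ from rfl, Spec.map_id, Category.id_comp]
    exact QCoh.isPullback_overSpec (f := f) hV'
  obtain ⟨i₂⟩ := nonempty_tfun_bc_iso hF₀ hP₀ hsq em A (RingHom.id A) O.ι hid 0
  let eT : CohIII.TFun K 0 ⋙ forget₂ (ModuleCat.{u} A) AddCommGrpCat.{u} ≅
      CohIII.TFun PA (-((0 : ℕ) : ℤ)) ⋙ forget₂ (ModuleCat.{u} A) AddCommGrpCat.{u} :=
    i₁ ≪≫ Functor.isoWhiskerRight (tensorAFunctorCongr A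
      ((Scheme.Modules.restrictFunctorIsoPullback O.ι).app M)) _ ≪≫ i₂.symm
  -- the localization and the residue field
  let g := S.fromSpecResidueField y
  have hle : ⊤ ≤ g ⁻¹ᵁ V := fun t _ => by
    show g t ∈ V
    rw [Scheme.fromSpecResidueField_apply]
    exact hy
  let B := Γ(Spec (S.residueField y), ⊤)
  letI algB : Algebra A B := (g.appLE V ⊤ hle).hom.toAlgebra
  let χ := QCoh.evalV y hy
  let i := (Scheme.ΓSpecIso (S.residueField y)).commRingCatIsoToRingEquiv
  have happ : ∀ a : A, algebraMap A B a = i.symm (χ a) := fun a =>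
    congr($(fromSpecResidueField_appLE hV' y hy hle) a)
  let L := Localization.AtPrime xy.asIdeal
  have hu : ∀ s : xy.asIdeal.primeCompl, IsUnit (χ s) := fun s => isUnit_iff_ne_zero.2 fun h0 =>
    s.2 ((SetLike.ext_iff.1 (QCoh.ker_evalV hV' hy) s.1).1 h0)
  let τ : L →+* S.residueField y := IsLocalization.lift hu
  have hτ : Function.Surjective τ := by
    intro k
    obtain ⟨st, rfl⟩ := S.residue_surjective y k
    letI := TopCat.Presheaf.algebra_section_stalk S.presheaf (⟨y, hy⟩ : V)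
    haveI := hV'.isLocalization_stalk ⟨y, hy⟩
    obtain ⟨a, s, rfl⟩ := IsLocalization.exists_mk'_eq xy.asIdeal.primeCompl st
    refine ⟨IsLocalization.mk' L a s, ?_⟩
    rw [IsLocalization.lift_mk'_spec]
    show (S.presheaf.germ V y hy ≫ S.residue y) a =
      (S.presheaf.germ V y hy ≫ S.residue y) s * S.residue y (IsLocalization.mk' _ a s)
    rw [CommRingCat.comp_apply, CommRingCat.comp_apply, ← map_mul]
    exact congrArg _ (IsLocalization.mk'_spec' (S.presheaf.stalk y) a s).symm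
  let q : L →ₗ[A] B :=
    { toFun := fun l => i.symm (τ l)
      map_add' := fun a b => by rw [map_add, map_add]
      map_smul' := fun a l => by
        rw [Algebra.smul_def, Algebra.smul_def, map_mul, map_mul, RingHom.id_apply, happ]
        exact congrArg (fun t => i.symm t * i.symm (τ l)) (IsLocalization.lift_eq hu a) }
  have hq : Function.Surjective q := i.symm.surjective.comp hτ
  -- surjectivity on the Čech complex
  letI mods : ∀ V' : {V' : X.Opens // V' ≤ f ⁻¹ᵁ V}, Module A Γ(M, V'.1) :=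
    fun V' => Module.compHom _ (f.appLE V V'.1 V'.2).hom
  letI modM : Module A Γ(M, f ⁻¹ᵁ V) := Module.compHom _ (f.app V).hom
  have hresA : ∀ (W : X.Opens) (hW : W ≤ f ⁻¹ᵁ V) (a : A) (x : Γ(M, f ⁻¹ᵁ V)),
      QCoh.rs M hW (a • x) = (f.appLE V W hW).hom a • QCoh.rs M hW x := fun W hW a x => by
    refine (QCoh.rs_smul hW (f.app V a) x).trans ?_
    rw [Scheme.Hom.appLE, CommRingCat.comp_apply]
  let R : Γ(M, f ⁻¹ᵁ V) →ₗ[A] (∀ i, Γ(M, (O₀ i).1)) :=
    { toFun := fun x i => QCoh.rs M (O₀ i).2 x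
      map_add' := fun x y => funext fun i => QCoh.rs_add _ _ _
      map_smul' := fun a x => funext fun i => hresA _ _ a x }
  let δ : (∀ i, Γ(M, (O₀ i).1)) →ₗ[A] (∀ s, Γ(M, (O₁ s).1)) :=
    { toFun := fun x s => QCoh.rs M (hα s) (x (α s)) - QCoh.rs M (hβ s) (x (β s))
      map_add' := fun x y => funext fun s => by
        show QCoh.rs M _ (x (α s) + y (α s)) - QCoh.rs M _ (x (β s) + y (β s)) = _
        rw [QCoh.rs_add, QCoh.rs_add, add_sub_add_comm]
        rfl
      map_smul' := fun a x => funext fun s => by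
        show QCoh.rs M _ ((f.appLE V _ (O₀ (α s)).2).hom a • x (α s)) -
          QCoh.rs M _ ((f.appLE V _ (O₀ (β s)).2).hom a • x (β s)) =
          (f.appLE V _ (O₁ s).2).hom a • (QCoh.rs M (hα s) (x (α s)) - QCoh.rs M (hβ s) (x (β s)))
        rw [QCoh.rs_smul, QCoh.rs_smul, smul_sub]
        exact congrArg₂ (fun r r' => r • QCoh.rs M (hα s) (x (α s)) - r' • QCoh.rs M (hβ s) (x (β s)))
          (congr($(f.appLE_map (O₀ (α s)).2 (homOfLE (hα s)).op) a))
          (congr($(f.appLE_map (O₀ (β s)).2 (homOfLE (hβ s)).op) a)) }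
  have hle' : f.fiberToSpecResidueField y ⁻¹ᵁ ⊤ ≤ f.fiberι y ⁻¹ᵁ (f ⁻¹ᵁ V) := by
    rw [← Scheme.Hom.comp_preimage, f.fiber_fac y, Scheme.Hom.comp_preimage]
    exact (f.fiberToSpecResidueField y).preimage_mono hle
  have hker := ker_lTensor_of_surjective (f := f) (g := g) (g' := f.fiberι y)
    (f' := f.fiberToSpecResidueField y) (IsPullback.of_hasPullback f g) hM hV' (isAffineOpen_top _) hle hle'
    O₀ hO₀ O₁ α β hα hβ hc₀ hpair (exists_sum_pullSec_of_epi_bc0 hM y hs hV' hle hle')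
    R (fun _ _ => rfl) δ (fun _ _ => rfl)
  let RK : Γ(M, f ⁻¹ᵁ V) →ₗ[A] K.X 0 := e₀.symm.toLinearMap.comp R
  have hδR : ∀ m, δ (R m) = 0 := fun m => funext fun s =>
    sub_eq_zero.2 ((QCoh.rs_rs _ _ _).trans (QCoh.rs_rs (O₀ (β s)).2 (hβ s) m).symm)
  have hRK : ∀ m, (K.d 0 1).hom (RK m) = 0 := fun m => by
    refine e₁.injective ?_
    rw [map_zero, ← key δ (fun _ _ => rfl)]
    show δ (e₀ (e₀.symm (R m))) = 0
    rw [LinearEquiv.apply_symm_apply, hδR]
  have hsT : Function.Surjective ((CohIII.TFun K 0).map (ModuleCat.ofHom q)).hom := by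
    refine surjective_tfun_of_ker_lift K RK hRK (ModuleCat.ofHom q) hq fun z hz => ?_
    have hc : ∀ z : K.X 0 ⊗[A] B, δ.lTensor B (TensorProduct.comm A _ _ (e₀.toLinearMap.rTensor B z)) =
        TensorProduct.comm A _ _ (e₁.toLinearMap.rTensor B ((K.d 0 1).hom.rTensor B z)) := fun z => by
      induction z using TensorProduct.induction_on with
      | zero => simp
      | tmul c b =>
        simp only [LinearMap.rTensor_tmul, TensorProduct.comm_tmul, LinearMap.lTensor_tmul]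
        exact congrArg (b ⊗ₜ[A] ·) (key δ (fun _ _ => rfl) c)
      | add a b ha hb => simp only [map_add, ha, hb]
    obtain ⟨w, hw⟩ := hker (TensorProduct.comm A _ _ (e₀.toLinearMap.rTensor B z))
      ((hc z).trans (by rw [show (K.d 0 1).hom.rTensor B z = 0 from hz]; simp))
    refine ⟨TensorProduct.comm A _ _ w, ?_⟩
    have hc' : ∀ w : B ⊗[A] Γ(M, f ⁻¹ᵁ V), TensorProduct.comm A _ _
        (e₀.toLinearMap.rTensor B (RK.rTensor B (TensorProduct.comm A _ _ w))) = R.lTensor B w := fun w => by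
      induction w using TensorProduct.induction_on with
      | zero => simp
      | tmul b m =>
        show b ⊗ₜ[A] (e₀ (e₀.symm (R m))) = b ⊗ₜ[A] R m
        rw [LinearEquiv.apply_symm_apply]
      | add a b ha hb => simp only [map_add, ha, hb]
    exact (LinearEquiv.rTensor B e₀).injective ((TensorProduct.comm A _ _).injective ((hc' w).trans hw))
  have hsP : Function.Surjective ((CohIII.TFun PA (-((0 : ℕ) : ℤ))).map (ModuleCat.ofHom q)).hom :=
    surjective_map_of_forget_iso eT _ hsT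
  -- right exactness over the localization
  have hPAfin : ∀ n, Module.Finite A (PA.X n) := QCoh.finite_bcCx_X_aux P φ hP.1
  have hPAfree : ∀ n, Module.Free A (PA.X n) := fun n => (free_fp_bcCx_X P φ n (hP.1 n) (hP.2.1 n)).1
  have hPAflat : ∀ n, Module.Flat A (PA.X n) := fun n => @Module.Flat.of_free _ _ _ _ _ (hPAfree n)
  have hPAzero : ∀ n : ℤ, 0 < n → ∀ N : ModuleCat.{u} A, IsZero (CohIII.T PA n N) := fun n hn N => by
    obtain ⟨b⟩ := QCoh.nonempty_bcT_iso P φ n
    have hs₀ : Subsingleton ((CohIII.TFun P n).obj ((ModuleCat.restrictScalars φ).obj N)) :=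
      ModuleCat.isZero_iff_subsingleton.1 (hP.2.2.2.1 n hn _)
    exact ModuleCat.isZero_iff_subsingleton.2
      (@Equiv.subsingleton _ _ (b.app N).addCommGroupIsoToAddEquiv.toEquiv hs₀)
  show (CohIII.TFun (QCoh.locCx PA xy) (-((0 : ℕ) : ℤ))).PreservesEpimorphisms
  rw [FlatCxLib.preservesEpi_iff_surjective_residue (FlatCxLib.flat_bcCx_X PA hPAflat)
    (QCoh.finite_bcCx_X_aux PA _ hPAfin)]
  obtain ⟨b⟩ := QCoh.nonempty_bcT_iso PA (algebraMap A L) (-((0 : ℕ) : ℤ))
  let res := ModuleCat.ofHom (Algebra.linearMap L (IsLocalRing.ResidueField L))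
  -- `q` is the residue map up to an isomorphism
  let σ : IsLocalRing.ResidueField L →+* B :=
    Ideal.Quotient.lift _ (i.symm.toRingHom.comp τ) fun l hl => by
      show i.symm (τ l) = 0
      rw [map_eq_zero_iff _ i.symm.injective]
      by_contra h0
      obtain ⟨l', hl'⟩ := hτ (τ l)⁻¹
      refine (IsLocalRing.mem_maximalIdeal l).1 hl ?_
      have : IsUnit (l * l') := by
        by_contra hn
        obtain ⟨a, s, e⟩ := IsLocalization.exists_mk'_eq xy.asIdeal.primeCompl (l * l')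
        have hm : a ∈ xy.asIdeal := by
          by_contra ha
          exact hn (e ▸ (IsLocalization.AtPrime.isUnit_mk'_iff L xy.asIdeal a s).2 ha)
        have h1 : χ a = 0 := (SetLike.ext_iff.1 (QCoh.ker_evalV hV' hy) a).2 hm
        have h2 : τ (IsLocalization.mk' L a s) = 1 := by rw [e, map_mul, hl', mul_inv_cancel₀ h0]
        rw [IsLocalization.lift_mk'_spec, h1, mul_one] at h2
        exact (hu s).ne_zero h2.symm
      exact isUnit_of_mul_isUnit_left this
  have hσ : Function.Bijective σ :=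
    ⟨σ.injective, fun b => by
      obtain ⟨l, rfl⟩ := hq b
      exact ⟨IsLocalRing.residue L l, rfl⟩⟩
  let RS := ModuleCat.restrictScalars (algebraMap A L)
  let e₁' : RS.obj (ModuleCat.of L L) →ₗ[A] L :=
    { toFun := fun z => z
      map_add' := fun _ _ => rfl
      map_smul' := fun a z => (Algebra.smul_def a (show L from z)).symm }
  let e₂' : RS.obj (ModuleCat.of L (IsLocalRing.ResidueField L)) →ₗ[A] B :=
    { toFun := fun z => σ z
      map_add' := map_add σ
      map_smul' := fun a z => by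
        show σ (algebraMap L _ (algebraMap A L a) * (show IsLocalRing.ResidueField L from z)) =
          algebraMap A B a * σ z
        rw [map_mul, happ]
        exact congrArg (· * σ z) (congrArg i.symm (IsLocalization.lift_eq hu a)) }
  haveI : IsIso (ModuleCat.ofHom e₁') :=
    (ConcreteCategory.isIso_iff_bijective _).2 Function.bijective_id
  haveI : IsIso (ModuleCat.ofHom e₂') := (ConcreteCategory.isIso_iff_bijective _).2 hσ
  have hfac : RS.map res = ModuleCat.ofHom e₁' ≫ ModuleCat.ofHom q ≫ inv (ModuleCat.ofHom e₂') := by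
    rw [← Category.assoc, IsIso.eq_comp_inv]
    exact ModuleCat.hom_ext (LinearMap.ext fun z => rfl)
  have hres : Function.Surjective ((CohIII.TFun PA (-((0 : ℕ) : ℤ))).map (RS.map res)).hom := by
    rw [hfac, Functor.map_comp, Functor.map_comp]
    haveI : Epi ((CohIII.TFun PA (-((0 : ℕ) : ℤ))).map (ModuleCat.ofHom q)) :=
      (ModuleCat.epi_iff_surjective _).2 hsP
    exact (ModuleCat.epi_iff_surjective _).1 inferInstance
  intro z
  obtain ⟨w, hw⟩ := hres ((b.app _).addCommGroupIsoToAddEquiv z)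
  refine ⟨(b.app _).addCommGroupIsoToAddEquiv.symm w, (b.app _).addCommGroupIsoToAddEquiv.injective ?_⟩
  refine Eq.trans ?_ hw
  refine (ConcreteCategory.congr_hom (b.hom.naturality res) _).trans ?_
  exact congrArg _ ((b.app _).addCommGroupIsoToAddEquiv.apply_symm_apply w)

/-- Surjectivity of the base change map to the fibre gives a neighbourhood where the direct image is free and
kernels commute with base change. -/
theorem exists_kerBC_nhd_of_epi (y : S)
    (hs : Epi (CohBC.bc0 f (S.fromSpecResidueField y) (f.fiberToSpecResidueField y) (f.fiberι y) (f.fiber_fac y) M)) :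
    ∃ (W : S.Opens) (n : ℕ), y ∈ W ∧ HasKerBC f M W ∧
      Nonempty (((Coh.Rpush f 0).obj M).restrict W.ι ≅ FlatMod.freeMod (W : Scheme.{u}) n) := by
  obtain ⟨_, ⟨V, hV, rfl⟩, hy, -⟩ :=
    S.isBasis_affineOpens.exists_subset_of_mem_open (Set.mem_univ y) isOpen_univ
  have hV' : IsAffineOpen V := hV
  have hM := QCoh.isQCoh_of_isFP hfp
  obtain ⟨A₀, _, hA, φ, P, hP, X₀, _, F₀, gm, hp₀, hF₀, hP₀, hsq, ⟨em⟩⟩ := exists_isFpModel_data hfp hfl hV'
  haveI := hp₀
  haveI := hA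
  let A := Γ(S, V)
  let PA := CohIII.bcCx φ P
  let xy : PrimeSpectrum A := hV'.primeIdealOf ⟨y, hy⟩
  have hPAfin : ∀ n, Module.Finite A (PA.X n) := QCoh.finite_bcCx_X_aux P φ hP.1
  have hPAfree : ∀ n, Module.Free A (PA.X n) := fun n => (free_fp_bcCx_X P φ n (hP.1 n) (hP.2.1 n)).1
  have hPAflat : ∀ n, Module.Flat A (PA.X n) := fun n => @Module.Flat.of_free _ _ _ _ _ (hPAfree n)
  have hPAzero := hP.isZero_T_bc
  have hloc₀ := preservesEpi_locCx_of_epi hfp hfl hV' hP hF₀ hP₀ hsq em hy hs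
  have hloc₁ : (CohIII.TFun (QCoh.locCx PA xy) (-((0 : ℕ) : ℤ) + 1)).PreservesEpimorphisms :=
    (QCoh.isExactT_of_isZero fun N => QCoh.isZero_T_locCx PA xy (hPAzero _ (by norm_num)) N).2
  obtain ⟨r₁, hr₁, hc₁⟩ := exists_flat_coker_away PA hPAfin hPAfree xy _ hloc₀
  obtain ⟨r₂, hr₂, n, hn⟩ := exists_free_homology_bc' PA hPAfin hPAfree xy _ hloc₀ hloc₁
  have hyW : y ∈ S.basicOpen (r₁ * r₂) :=
    (QCoh.mem_basicOpen_iff_notMem hV' hy _).2 fun hm => (xy.isPrime.mem_or_mem hm).elim hr₁ hr₂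
  let W := S.basicOpen (r₁ * r₂)
  have hWV : W ≤ V := S.basicOpen_le _
  let ψ := (S.presheaf.map (homOfLE hWV).op).hom
  have hψu := S.toRingedSpace.isUnit_res_basicOpen (r₁ * r₂)
  rw [map_mul] at hψu
  let E : CohIII.bcCx (ψ.comp φ) P ≅ CohIII.bcCx ψ PA :=
    HomologicalComplex.Hom.isoOfComponents
      (fun n => (ModuleCat.extendScalarsComp φ ψ).app (P.X n))
      (fun a b _ => ((ModuleCat.extendScalarsComp φ ψ).hom.naturality (P.d a b)).symm)
  haveI := hc₁ _ ψ (isUnit_of_mul_isUnit_left hψu)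
  have hepi : (CohIII.TFun (CohIII.bcCx ψ PA) (-((0 : ℕ) : ℤ))).PreservesEpimorphisms := by
    letI := ψ.toAlgebra
    exact (FlatCxLib.preservesEpi_iff (FlatCxLib.flat_bcCx_X PA hPAflat)
      (show -((0 : ℕ) : ℤ) - 1 + 1 = -((0 : ℕ) : ℤ) by lia)).2 ‹_›
  refine ⟨W, n, hyW, ?_, ?_⟩
  · refine hasKerBC_of_preservesEpi hM hfl (hV'.basicOpen _) ?_
    intro κ' _ U' hcov' hU'
    letI : ((f ⁻¹ᵁ W : X.Opens) : Scheme.{u}).Over (Spec (CommRingCat.of Γ(S, W))) :=
      ⟨QCoh.overSpec f (hV'.basicOpen _)⟩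
    have hb : IsPullback (f ⁻¹ᵁ W).ι (((f ⁻¹ᵁ W : X.Opens) : Scheme.{u}) ↘ Spec (CommRingCat.of Γ(S, W))) f
        (Spec.map (CommRingCat.ofHom ψ) ≫ hV'.fromSpec) := by
      rw [show Spec.map (CommRingCat.ofHom ψ) ≫ hV'.fromSpec = (hV'.basicOpen (r₁ * r₂)).fromSpec from
        hV'.map_fromSpec (hV'.basicOpen _) (homOfLE hWV).op]
      exact QCoh.isPullback_overSpec (f := f) _
    obtain ⟨j₁⟩ := nonempty_tfun_bc_iso hF₀ hP₀ hsq em Γ(S, W) ψ (f ⁻¹ᵁ W).ι hb 0
    obtain ⟨j₂⟩ := QCoh.nonempty_tfun_iso (A := Γ(S, W)) _ (QCoh.isQCoh_pullback (f ⁻¹ᵁ W).ι hM) hcov' hU' 0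
    exact preservesEpi_of_forget_iso
      (Functor.isoWhiskerRight (QCoh.tfunMapIso E.symm _) _ ≪≫ j₁ ≪≫ j₂.symm) hepi
  · obtain ⟨l₁⟩ := hP.2.2.2.2.1 W hWV (hV'.basicOpen _) 0
    obtain ⟨l₂⟩ := hn _ ψ (isUnit_of_mul_isUnit_right hψu)
    exact QCoh.exists_free_restrict (QCoh.isQCoh_Rpush f hM 0) (hV'.basicOpen _)
      (l₁.trans (((HomologicalComplex.homologyFunctor _ _ (-((0 : ℕ) : ℤ))).mapIso E).toLinearEquiv.trans l₂))

end Groth.Agent.CohPullX
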