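import Groth.Agent.LimSm.Flat
import Groth.Agent.FlatBC5.Basic
import Groth.Agent.GrFlat5.FlatAtIso
import Groth.Agent.QCoh.LocFree

/-!
# Flatness of a module over the base descends along limits
-/

set_option autoImplicit false
set_option linter.style.haveILetI false
set_option linter.unusedSectionVars false
set_option backward.isDefEq.respectTransparency false
set_option backward.isDefEq.respectTransparency.types false

universe u

open CategoryTheory CategoryTheory.Limits AlgebraicGeometry TopologicalSpace Opposite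
open scoped TensorProduct

namespace Groth.Agent.CohPullX

open Groth.Agent Groth.Agent.MorLib

/-- Flatness of a base change of a module, over affine bases, through global functions. -/
theorem flat_tensor_iff_top {X S X' T : Scheme.{u}} {u : X ⟶ S} {u' : X' ⟶ T} {g' : X' ⟶ X} {h : T ⟶ S}
    [IsAffine S] [IsAffine T] (hc : IsPullback g' u' u h) {F : X.Modules} (hF : Coh.IsQCoh F)
    {U : X.Opens} (hU : IsAffineOpen U) :
    (letI : Algebra Γ(S, ⊤) Γ(T, ⊤) := h.appTop.hom.toAlgebra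
     letI : Module Γ(S, ⊤) Γ(F, U) := Module.compHom _ (u.appLE ⊤ U le_top).hom
     Module.Flat Γ(T, ⊤) (Γ(T, ⊤) ⊗[Γ(S, ⊤)] Γ(F, U))) ↔
      ∀ x' : X', g' x' ∈ U → FlatMod.IsFlatOverAt u' ((Scheme.Modules.pullback g').obj F) x' := by
  have h1 := FlatBC5.flat_tensor_iff hc hF (isAffineOpen_top S) hU le_top (isAffineOpen_top T) le_top
  have e : h.appLE ⊤ ⊤ le_top = h.appTop := Scheme.Hom.appLE_eq_app (f := h)
  generalize h.appTop = r at e ⊢
  subst e
  exact h1.trans ⟨fun H x' hx => H x' hx trivial, fun H x' hx _ => H x' hx⟩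

variable {I : Type u} [SmallCategory I] [IsCofiltered I] (D : I ⥤ Scheme.{u}) {c : Cone D}
  (hc : IsLimit c) [∀ {i j : I} (f : i ⟶ j), IsAffineHom (D.map f)]

include hc in
/-- Flatness over an affine open reaches a stage. -/
theorem exists_flat_stage_open (j : I) [IsAffine (D.obj j)] {Xj : Scheme.{u}} (fj : Xj ⟶ D.obj j)
    [LocallyOfFinitePresentation fj] {F : Xj.Modules} (hfp : CohB1.IsFP F) {U : Xj.Opens} (hU : IsAffineOpen U)
    (hfl : ∀ x : ↥(pullback fj (c.π.app j)), pullback.fst fj (c.π.app j) x ∈ U →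
      FlatMod.IsFlatOverAt (pullback.snd fj (c.π.app j))
        ((Scheme.Modules.pullback (pullback.fst fj (c.π.app j))).obj F) x) :
    ∃ (k : I) (φ : k ⟶ j), ∀ x : ↥(pullback fj (D.map φ)), pullback.fst fj (D.map φ) x ∈ U →
      FlatMod.IsFlatOverAt (pullback.snd fj (D.map φ))
        ((Scheme.Modules.pullback (pullback.fst fj (D.map φ))).obj F) x := by
  have hF := QCoh.isQCoh_of_isFP hfp
  haveI hA : IsAffineHom (c.π.app j) := isAffineHom_π_app D c hc j
  haveI hAj : IsAffine (((Functor.const I).obj c.pt).obj j) := isAffine_of_isAffineHom (c.π.app j)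
  haveI : IsAffine c.pt := hAj
  haveI : ∀ k : Over j, IsAffine (D.obj k.left) := fun k => isAffine_of_isAffineHom (D.map k.hom)
  obtain ⟨α, _, _, _, Φ, _⟩ := IsFiltered.exists_directed (Over j)ᵒᵖ
  haveI : IsFiltered α := inferInstance
  let E : αᵒᵖ ⥤ Scheme.{u} := Φ.leftOp ⋙ Over.forget j ⋙ D
  let cE : Cone E := (c.whisker (Over.forget j)).whisker Φ.leftOp
  haveI : Φ.leftOp.Initial := inferInstance
  have hcE : IsLimit cE := (Functor.Initial.isLimitWhiskerEquiv Φ.leftOp (c.whisker (Over.forget j))).symm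
    ((Functor.Initial.isLimitWhiskerEquiv (Over.forget j) c).symm hc)
  haveI : ∀ a : αᵒᵖ, IsAffine (E.obj a) := fun a =>
    inferInstanceAs (IsAffine (D.obj (Φ.obj a.unop).unop.left))
  haveI : ∀ {a b : αᵒᵖ} (m : a ⟶ b), IsAffineHom (E.map m) := fun m => isAffineHom_of_isAffine _
  let G : α → Type u := fun a => Γ(D.obj (Φ.obj a).unop.left, ⊤)
  letI : ∀ a, Algebra Γ(D.obj j, ⊤) (G a) := fun a =>
    (D.map (Φ.obj a).unop.hom).appTop.hom.toAlgebra
  letI : Algebra Γ(D.obj j, ⊤) Γ(c.pt, ⊤) := (c.π.app j).appTop.hom.toAlgebra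
  letI : ∀ a, Algebra (G a) Γ(c.pt, ⊤) := fun a => (c.π.app (Φ.obj a).unop.left).appTop.hom.toAlgebra
  haveI : ∀ a, IsScalarTower Γ(D.obj j, ⊤) (G a) Γ(c.pt, ⊤) := fun a =>
    IsScalarTower.of_algebraMap_eq fun x => (Desc.π_map_apply (Φ.obj a).unop x).symm
  let g : ∀ a b, a ≤ b → G a →ₐ[Γ(D.obj j, ⊤)] G b := fun a b h =>
    { (D.map (Φ.map (homOfLE h)).unop.left).appTop.hom with
      commutes' := fun x => Desc.map_map_apply (Φ.map (homOfLE h)).unop x }
  have hG : FlatCA.IsDirectedColimitRing G (fun a b h => (g a b h).toRingHom) Γ(c.pt, ⊤) := by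
    refine ⟨inferInstance, inferInstance, fun a => RingHom.ext fun x => ?_,
      fun a b d hab hbd => RingHom.ext fun x => ?_, fun a b h => RingHom.ext fun x => ?_, fun z => ?_,
      fun a x hx => ?_⟩
    · show (D.map (Φ.map (homOfLE (le_refl a))).unop.left).appTop x = x
      rw [show homOfLE (le_refl a) = 𝟙 a from Subsingleton.elim _ _, Φ.map_id, unop_id, Over.id_left,
        D.map_id]
      rfl
    · show (D.map (Φ.map (homOfLE hbd)).unop.left).appTop ((D.map (Φ.map (homOfLE hab)).unop.left).appTop x) =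
        (D.map (Φ.map (homOfLE (hab.trans hbd))).unop.left).appTop x
      rw [show homOfLE (hab.trans hbd) = homOfLE hab ≫ homOfLE hbd from Subsingleton.elim _ _, Φ.map_comp,
        unop_comp, Over.comp_left, D.map_comp, Scheme.Hom.comp_appTop]
      rfl
    · show (c.π.app (Φ.obj b).unop.left).appTop ((D.map (Φ.map (homOfLE h)).unop.left).appTop x) =
        (c.π.app (Φ.obj a).unop.left).appTop x
      rw [← c.w (Φ.map (homOfLE h)).unop.left, Scheme.Hom.comp_appTop]
      rfl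
    · obtain ⟨a, y, hy⟩ := exists_appTop_π_eq_of_isAffine_of_isLimit E cE hcE z
      exact ⟨a.unop, y, hy⟩
    · obtain ⟨b, m, hm⟩ := exists_appTop_map_eq_zero_of_isLimit E cE hcE (i := op a) x hx
      refine ⟨b.unop, leOfHom m.unop, ?_⟩
      show (D.map (Φ.map (homOfLE (leOfHom m.unop))).unop.left).appTop x = 0
      rw [show homOfLE (leOfHom m.unop) = m.unop from Subsingleton.elim _ _]
      exact hm
  letI : Algebra Γ(D.obj j, ⊤) Γ(Xj, U) := (fj.appLE ⊤ U le_top).hom.toAlgebra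
  haveI : Algebra.FinitePresentation Γ(D.obj j, ⊤) Γ(Xj, U) :=
    fj.finitePresentation_appLE (isAffineOpen_top _) hU le_top
  haveI := QCoh.finitePresentation_of_isFP hfp hU
  letI : Module Γ(D.obj j, ⊤) Γ(F, U) := Module.compHom _ (fj.appLE ⊤ U le_top).hom
  haveI : IsScalarTower Γ(D.obj j, ⊤) Γ(Xj, U) Γ(F, U) := .of_algebraMap_smul fun _ _ => rfl
  obtain ⟨a, ha⟩ := FlatSyz5.exists_flat_stage (B₀ := Γ(Xj, U)) G g Γ(c.pt, ⊤) hG Γ(F, U)
    ((flat_tensor_iff_top (IsPullback.of_hasPullback fj (c.π.app j)) hF hU).2 hfl)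
  let k : Over j := (Φ.obj a).unop
  exact ⟨k.left, k.hom, (flat_tensor_iff_top (IsPullback.of_hasPullback fj (D.map k.hom)) hF hU).1 ha⟩

include hc in
/-- Flatness of a module over the base reaches a stage. -/
theorem exists_flat_stage_module (j : I) [IsAffine (D.obj j)] {Xj : Scheme.{u}} (fj : Xj ⟶ D.obj j)
    [LocallyOfFinitePresentation fj] [CompactSpace Xj] {F : Xj.Modules} (hfp : CohB1.IsFP F)
    (hfl : FlatMod.IsFlatOver (pullback.snd fj (c.π.app j))
      ((Scheme.Modules.pullback (pullback.fst fj (c.π.app j))).obj F)) :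
    ∃ (k : I) (φ : k ⟶ j), FlatMod.IsFlatOver (pullback.snd fj (D.map φ))
        ((Scheme.Modules.pullback (pullback.fst fj (D.map φ))).obj F) := by
  classical
  have hcov : ∀ p : Xj, ∃ U : Xj.affineOpens, p ∈ U.1 := fun p => by
    obtain ⟨V, hV, hp, -⟩ := exists_isAffineOpen_mem_and_subset (x := p) (U := ⊤) trivial
    exact ⟨⟨V, hV⟩, hp⟩
  choose W hW using hcov
  obtain ⟨T, hT⟩ := isCompact_univ.elim_finite_subcover (fun p => (((W p).1 : Xj.Opens) : Set Xj))
    (fun p => (W p).1.2) fun p _ => Set.mem_iUnion.mpr ⟨p, hW p⟩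
  choose k φ hk using fun p : T => exists_flat_stage_open D hc j fj hfp (W p.1).2 fun x _ => hfl x
  obtain ⟨l, ψ, χ, hχ⟩ := IsCofiltered.wideCospan φ
  refine ⟨l, ψ, fun x => ?_⟩
  obtain ⟨p, hp, hx⟩ := Set.mem_iUnion₂.mp (hT (Set.mem_univ (pullback.fst fj (D.map ψ) x)))
  let m : pullback fj (D.map ψ) ⟶ pullback fj (D.map (φ ⟨p, hp⟩)) :=
    pullback.map _ _ _ _ (𝟙 _) (D.map (χ ⟨p, hp⟩)) (𝟙 _) (by simp)
      (by rw [Category.comp_id, ← D.map_comp, hχ])
  have hm1 : m ≫ pullback.fst fj (D.map (φ ⟨p, hp⟩)) = pullback.fst fj (D.map ψ) := by simp [m]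
  have hm2 : m ≫ pullback.snd fj (D.map (φ ⟨p, hp⟩)) = pullback.snd fj (D.map ψ) ≫ D.map (χ ⟨p, hp⟩) := by
    simp [m]
  have sq : IsPullback m (pullback.snd fj (D.map ψ)) (pullback.snd fj (D.map (φ ⟨p, hp⟩)))
      (D.map (χ ⟨p, hp⟩)) := by
    refine IsPullback.of_right ?_ hm2 (IsPullback.of_hasPullback fj (D.map (φ ⟨p, hp⟩)))
    rw [hm1, ← D.map_comp, hχ]
    exact IsPullback.of_hasPullback fj (D.map ψ)
  have hmem : pullback.fst fj (D.map (φ ⟨p, hp⟩)) (m x) ∈ (W p).1 := by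
    rw [← Scheme.Hom.comp_apply, hm1]
    exact hx
  refine GrFlat5.isFlatOverAt_of_iso _ ((Scheme.Modules.pullbackComp m (pullback.fst fj (D.map (φ ⟨p, hp⟩)))).app F ≪≫
    (Scheme.Modules.pullbackCongr hm1).app F) x ?_
  exact MorLib.FlatBC.isFlatOverAt_baseChange _ _ m (D.map (χ ⟨p, hp⟩)) sq _ x (hk ⟨p, hp⟩ (m x) hmem)

end Groth.Agent.CohPullX
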