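import Groth.Agent.CohPullX.ProperModel
import Groth.Agent.QCoh.RpushExchange2

/-!
# Finite free models of higher direct images for proper morphisms of finite presentation
-/

set_option autoImplicit false
set_option linter.style.haveILetI false
set_option linter.unusedSectionVars false
set_option backward.isDefEq.respectTransparency false
set_option backward.isDefEq.respectTransparency.types false
set_option maxHeartbeats 1000000

universe u

open CategoryTheory CategoryTheory.Limits AlgebraicGeometry TopologicalSpace Opposite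

namespace Groth.Agent.CohPullX

open Groth.Agent

variable {X S : Scheme.{u}} (f : X ⟶ S) (M : X.Modules)

/-- A finite free complex over a noetherian ring computing higher direct images and fibres over `V`. -/
def IsFpModel {V : S.Opens} (hV : IsAffineOpen V) [HasInjectiveResolutions X.Modules] {A₀ : Type u} [CommRing A₀]
    (φ : A₀ →+* Γ(S, V)) (P : ChainComplex (ModuleCat.{u} A₀) ℤ) : Prop :=
  (∀ i, Module.Finite A₀ (P.X i)) ∧ (∀ i, Module.Free A₀ (P.X i)) ∧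
  (∃ c : ℤ, ∀ i, i < c → IsZero (P.X i)) ∧
  (∀ q : ℤ, 0 < q → ∀ N : ModuleCat.{u} A₀, IsZero (CohIII.T P q N)) ∧
  (∀ (V' : S.Opens) (hle : V' ≤ V), IsAffineOpen V' → ∀ p : ℕ,
    Nonempty (Γ((Coh.Rpush f p).obj M, V') ≃ₗ[Γ(S, V')]
      (CohIII.bcCx ((S.presheaf.map (homOfLE hle).op).hom.comp φ) P).homology (-(p : ℤ)))) ∧
  ∀ (p : ℕ) (y : S) (hy : y ∈ V),
    CohIII.fiberRank f M p y =
      CohIII.dRank P (-(p : ℤ)) (PrimeSpectrum.comap φ (hV.primeIdealOf ⟨y, hy⟩)) ∧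
      Module.Finite (S.residueField y) (CohIII.fiberH f M y p)

variable {f M}

/-- Cohomology after base change from the noetherian model. -/
theorem nonempty_bc_equiv {A₀ : Type u} [CommRing A₀] {V : S.Opens} {hV : IsAffineOpen V}
    {φ : A₀ →+* Γ(S, V)} {X₀ : Scheme.{u}} [X₀.Over (Spec (CommRingCat.of A₀))] {F₀ : X₀.Modules}
    {P : ChainComplex (ModuleCat.{u} A₀) ℤ} (hP : QCoh.IsBCModel F₀ P)
    {g : ((f ⁻¹ᵁ V : X.Opens) : Scheme.{u}) ⟶ X₀}
    (hsq : IsPullback g (QCoh.overSpec f hV) (X₀ ↘ Spec (CommRingCat.of A₀)) (Spec.map (CommRingCat.ofHom φ)))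
    (e : (Scheme.Modules.pullback g).obj F₀ ≅ (Scheme.Modules.pullback (f ⁻¹ᵁ V).ι).obj M)
    (B : Type u) [CommRing B] (ψ : Γ(S, V) →+* B) {X' : Scheme.{u}} (ι : X' ⟶ X)
    (p' : X' ⟶ Spec (CommRingCat.of B))
    (h : IsPullback ι p' f (Spec.map (CommRingCat.ofHom ψ) ≫ hV.fromSpec)) (p : ℕ) :
    letI := QCoh.modHH (Coh.toGlobal p') ((Scheme.Modules.pullback ι).obj M) p
    Nonempty (Coh.HH X' ((Scheme.Modules.pullback ι).obj M) p ≃ₗ[B]
      (CohIII.bcCx (ψ.comp φ) P).homology (-(p : ℤ))) := by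
  have hpb := QCoh.isPullback_overSpec (f := f) hV
  let g' : X' ⟶ ((f ⁻¹ᵁ V : X.Opens) : Scheme.{u}) :=
    hpb.lift ι (p' ≫ Spec.map (CommRingCat.ofHom ψ)) (by rw [Category.assoc]; exact h.w)
  have hg : g' ≫ (f ⁻¹ᵁ V).ι = ι := hpb.lift_fst _ _ _
  have hsq' : IsPullback g' p' (QCoh.overSpec f hV) (Spec.map (CommRingCat.ofHom ψ)) :=
    IsPullback.of_right (by rw [hg]; exact h) (hpb.lift_snd _ _ _) hpb
  have hbig : IsPullback (g' ≫ g) p' (X₀ ↘ Spec (CommRingCat.of A₀))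
      (Spec.map (CommRingCat.ofHom (ψ.comp φ))) := by
    rw [CommRingCat.ofHom_comp, Spec.map_comp]
    exact hsq'.paste_horiz hsq
  obtain ⟨e₂⟩ := hP.2.2.2.2.2 B (ψ.comp φ) X' (g' ≫ g) p' hbig p
  let eF : (Scheme.Modules.pullback (g' ≫ g)).obj F₀ ≅ (Scheme.Modules.pullback ι).obj M :=
    ((Scheme.Modules.pullbackComp g' g).app F₀).symm ≪≫ (Scheme.Modules.pullback g').mapIso e ≪≫
      (Scheme.Modules.pullbackComp g' (f ⁻¹ᵁ V).ι).app M ≪≫ (Scheme.Modules.pullbackCongr hg).app M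
  exact ⟨(QCoh.HHcongr (A := B) (Coh.toGlobal (A := B) p') eF p).symm.trans e₂⟩

/-- The model together with the noetherian family it comes from. -/
theorem exists_isFpModel_data [IsProper f] [LocallyOfFinitePresentation f] [HasInjectiveResolutions X.Modules]
    (hfp : CohB1.IsFP M) (hfl : FlatMod.IsFlatOver f M) {V : S.Opens} (hV : IsAffineOpen V) :
    ∃ (A₀ : Type u) (_ : CommRing A₀) (_ : IsNoetherianRing A₀) (φ : A₀ →+* Γ(S, V))
      (P : ChainComplex (ModuleCat.{u} A₀) ℤ), IsFpModel f M hV φ P ∧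
      ∃ (X₀ : Scheme.{u}) (_ : X₀.Over (Spec (CommRingCat.of A₀))) (F₀ : X₀.Modules)
        (g : ((f ⁻¹ᵁ V : X.Opens) : Scheme.{u}) ⟶ X₀),
        IsProper (X₀ ↘ Spec (CommRingCat.of A₀)) ∧ Coh.IsQCoh F₀ ∧ QCoh.IsBCModel F₀ P ∧
        IsPullback g (QCoh.overSpec f hV) (X₀ ↘ Spec (CommRingCat.of A₀)) (Spec.map (CommRingCat.ofHom φ)) ∧
        Nonempty ((Scheme.Modules.pullback g).obj F₀ ≅ (Scheme.Modules.pullback (f ⁻¹ᵁ V).ι).obj M) := by
  have hM := QCoh.isQCoh_of_isFP hfp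
  let U : X.Opens := f ⁻¹ᵁ V
  haveI : IsProper (QCoh.overSpec f hV) := by
    show IsProper ((f ∣_ V) ≫ hV.isoSpec.hom)
    infer_instance
  haveI : LocallyOfFinitePresentation (QCoh.overSpec f hV) := by
    show LocallyOfFinitePresentation ((f ∣_ V) ≫ hV.isoSpec.hom)
    haveI : LocallyOfFinitePresentation (f ∣_ V) := IsZariskiLocalAtTarget.restrict ‹_› V
    infer_instance
  let M' := (Scheme.Modules.pullback U.ι).obj M
  have hfl' : FlatMod.IsFlatOver (QCoh.overSpec f hV) M' := fun x =>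
    MorLib.FlatBC.isFlatOverAt_baseChange f (QCoh.overSpec f hV) U.ι hV.fromSpec
      (QCoh.isPullback_overSpec (f := f) hV) M x (hfl _)
  obtain ⟨A₀, _, hA, φ, X₀, f₀, g, F₀, hp₀, hsq, hF₀, hfl₀, ⟨e⟩⟩ :=
    exists_proper_flat_model Γ(S, V) (QCoh.overSpec f hV) (LimModLib.isFP_pullback U.ι hM hfp) hfl'
  letI : X₀.Over (Spec (CommRingCat.of A₀)) := ⟨f₀⟩
  haveI : IsNoetherianRing A₀ := hA
  haveI : IsProper (X₀ ↘ Spec (CommRingCat.of A₀)) := hp₀
  obtain ⟨P, hP⟩ := QCoh.exists_isBCModel F₀ hF₀ hfl₀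
  refine ⟨A₀, inferInstance, hA, φ, P, ⟨hP.1, hP.2.1, hP.2.2.1, hP.2.2.2.1, fun V' hle hV' p => ?_,
    fun p y hy => ?_⟩, X₀, ⟨f₀⟩, F₀, g, hp₀, hF₀.1, hP, hsq, ⟨e⟩⟩
  · let ψ := (S.presheaf.map (homOfLE hle).op).hom
    have hψ : Spec.map (CommRingCat.ofHom ψ) ≫ hV.fromSpec = hV'.fromSpec := hV.map_fromSpec hV' (homOfLE hle).op
    have hbig : IsPullback (f ⁻¹ᵁ V').ι (QCoh.overSpec f hV') f (Spec.map (CommRingCat.ofHom ψ) ≫ hV.fromSpec) := by
      rw [hψ]; exact QCoh.isPullback_overSpec (f := f) hV'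
    obtain ⟨e₂⟩ := nonempty_bc_equiv hP hsq e Γ(S, V') ψ (f ⁻¹ᵁ V').ι (QCoh.overSpec f hV') hbig p
    obtain ⟨e₁⟩ := QCoh.nonempty_sections_HH (f := f) hM hV' p
    rw [← QCoh.toGlobal_overSpec f hV'] at e₁
    let eR : M.restrict (f ⁻¹ᵁ V').ι ≅ (Scheme.Modules.pullback (f ⁻¹ᵁ V').ι).obj M :=
      (Scheme.Modules.restrictFunctorIsoPullback _).app M
    exact ⟨e₁.trans ((QCoh.HHcongr (Coh.toGlobal (QCoh.overSpec f hV')) eR p).trans e₂)⟩
  · let χ := QCoh.evalV y hy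
    have hχ : Spec.map (CommRingCat.ofHom χ) ≫ hV.fromSpec = S.fromSpecResidueField y := by
      show Spec.map (S.presheaf.germ V y hy ≫ S.residue y) ≫ _ = _
      rw [Spec.map_comp, Category.assoc, Scheme.fromSpecResidueField]
      exact congrArg (Spec.map (S.residue y) ≫ ·) (hV.fromSpecStalk_eq_fromSpecStalk hy)
    have hbig : IsPullback (f.fiberι y) (f.fiberToSpecResidueField y) f
        (Spec.map (CommRingCat.ofHom χ) ≫ hV.fromSpec) := by
      rw [hχ]; exact IsPullback.of_hasPullback _ _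
    obtain ⟨e₂⟩ := nonempty_bc_equiv hP hsq e (S.residueField y) χ (f.fiberι y)
      (f.fiberToSpecResidueField y) hbig p
    haveI := QCoh.finite_homology_bc (χ.comp φ) P hP.1 (-(p : ℤ))
    refine ⟨(LinearEquiv.finrank_eq e₂).trans (QCoh.finrank_bc_eq_dRank (χ.comp φ) P _ ?_ _),
      Module.Finite.equiv e₂.symm⟩
    ext a
    exact (RingHom.mem_ker).trans
      ((RingHom.mem_ker (f := χ)).symm.trans (by rw [QCoh.ker_evalV hV hy]; rfl))

theorem exists_isFpModel [IsProper f] [LocallyOfFinitePresentation f] [HasInjectiveResolutions X.Modules]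
    (hfp : CohB1.IsFP M) (hfl : FlatMod.IsFlatOver f M) {V : S.Opens} (hV : IsAffineOpen V) :
    ∃ (A₀ : Type u) (_ : CommRing A₀) (_ : IsNoetherianRing A₀) (φ : A₀ →+* Γ(S, V))
      (P : ChainComplex (ModuleCat.{u} A₀) ℤ), IsFpModel f M hV φ P := by
  obtain ⟨A₀, i, hA, φ, P, hP, -⟩ := exists_isFpModel_data hfp hfl hV
  exact ⟨A₀, i, hA, φ, P, hP⟩

end Groth.Agent.CohPullX
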