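import Groth.Prelude.Def_ega3
import Groth.Agent.FlatCxLib.Cls
import Groth.Agent.FlatCxLib.HomologyBC
import Mathlib.LinearAlgebra.TensorProduct.Quotient
import Mathlib.RingTheory.Flat.Basic

/-!
# Kernels commuting with base change
-/

set_option autoImplicit false
set_option backward.isDefEq.respectTransparency false
set_option backward.isDefEq.respectTransparency.types false
set_option linter.style.haveILetI false

universe u

open CategoryTheory CategoryTheory.Limits
open scoped TensorProduct

namespace Groth.Agent.CohPullX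

variable {A : Type u} [CommRing A]

section Modules

variable {M M₀ M₁ : Type u} [AddCommGroup M] [Module A M] [AddCommGroup M₀] [Module A M₀]
  [AddCommGroup M₁] [Module A M₁]

theorem mem_smul_top_iff_range (I : Ideal A) (y : M₀) :
    y ∈ I • (⊤ : Submodule A M₀) ↔
      ∃ w : M₀ ⊗[A] I, TensorProduct.rid A M₀ (I.subtype.lTensor M₀ w) = y := by
  constructor
  · intro hy
    refine Submodule.smul_induction_on hy (fun r hr m _ => ⟨m ⊗ₜ ⟨r, hr⟩, by simp⟩) ?_
    rintro a b ⟨w, rfl⟩ ⟨w', rfl⟩
    exact ⟨w + w', by simp⟩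
  · rintro ⟨w, rfl⟩
    induction w using TensorProduct.induction_on with
    | zero => simp
    | tmul m i => simpa using Submodule.smul_mem_smul i.2 (Submodule.mem_top (x := m))
    | add a b ha hb => rw [map_add, map_add]; exact add_mem ha hb

/-- Lifting of kernels modulo every ideal makes the cokernel flat. -/
theorem flat_coker_of_ker_lift [Module.Flat A M₁] (δ : M₀ →ₗ[A] M₁)
    (h : ∀ (I : Ideal A) (c : M₀), δ c ∈ I • (⊤ : Submodule A M₁) →
      ∃ k, δ k = 0 ∧ c - k ∈ I • (⊤ : Submodule A M₀)) :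
    Module.Flat A (M₁ ⧸ LinearMap.range δ) := by
  rw [Module.Flat.iff_lTensor_injective']
  intro I
  refine (injective_iff_map_eq_zero _).2 fun q hq => ?_
  let π := (LinearMap.range δ).mkQ
  obtain ⟨z, rfl⟩ := LinearMap.rTensor_surjective I (Submodule.mkQ_surjective _) q
  let μ : M₁ ⊗[A] I →ₗ[A] M₁ := (TensorProduct.rid A M₁).toLinearMap.comp (I.subtype.lTensor M₁)
  have hμ : Function.Injective μ := (TensorProduct.rid A M₁).injective.comp
    (Module.Flat.lTensor_preserves_injective_linearMap (M := M₁) I.subtype Subtype.val_injective)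
  have key : ∀ z : M₁ ⊗[A] I, TensorProduct.rid A (M₁ ⧸ LinearMap.range δ)
      (I.subtype.lTensor _ (π.rTensor I z)) = π (μ z) := fun z => by
    induction z using TensorProduct.induction_on with
    | zero => simp
    | tmul m i => simp [μ]
    | add a b ha hb => simp only [map_add, ha, hb]
  have h0 : π (μ z) = 0 := (key z).symm.trans ((congrArg _ hq).trans (map_zero _))
  obtain ⟨c, hc⟩ := (Submodule.Quotient.mk_eq_zero _).1 h0
  obtain ⟨k, hk, hck⟩ := h I c (hc ▸ (mem_smul_top_iff_range I _).2 ⟨z, rfl⟩)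
  obtain ⟨w, hw⟩ := (mem_smul_top_iff_range I _).1 hck
  have key2 : ∀ w : M₀ ⊗[A] I, μ (δ.rTensor I w) = δ (TensorProduct.rid A M₀ (I.subtype.lTensor M₀ w)) := fun w => by
    induction w using TensorProduct.induction_on with
    | zero => simp
    | tmul m i => simp [μ]
    | add a b ha hb => simp only [map_add, ha, hb]
  have hz : z = δ.rTensor I w := hμ (by rw [key2, hw, map_sub, hk, sub_zero, hc])
  rw [hz, ← LinearMap.comp_apply, ← LinearMap.rTensor_comp,
    show π ∘ₗ δ = 0 from LinearMap.range_mkQ_comp δ, LinearMap.rTensor_zero]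
  rfl

/-- With a flat cokernel, the kernel commutes with every base change. -/
theorem exact_lTensor_of_flat_coker [Module.Flat A M₁] (R : M →ₗ[A] M₀) (δ : M₀ →ₗ[A] M₁)
    [Module.Flat A (M₁ ⧸ LinearMap.range δ)] (hR : Function.Injective R) (hex : Function.Exact R δ)
    (N : Type u) [AddCommGroup N] [Module A N] :
    Function.Injective (R.lTensor N) ∧ Function.Exact (R.lTensor N) (δ.lTensor N) := by
  haveI : Module.Flat A (LinearMap.range δ) :=
    FlatCxLib.flat_sub_of_flat (f := (LinearMap.range δ).subtype) (g := (LinearMap.range δ).mkQ)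
      Subtype.val_injective (LinearMap.exact_subtype_mkQ _) (Submodule.mkQ_surjective _)
  have hui : Function.Injective ((LinearMap.range δ).subtype.lTensor N) := by
    rw [LinearMap.lTensor_inj_iff_rTensor_inj]
    exact CAlgUI.ui_of_flat_quotient (g := (LinearMap.range δ).mkQ)
      Subtype.val_injective (LinearMap.exact_subtype_mkQ _) (Submodule.mkQ_surjective _) N
  have hR' : Function.Exact R δ.rangeRestrict := fun x => by
    refine Iff.trans ?_ (hex x)
    exact ⟨fun h => congrArg Subtype.val h, fun h => Subtype.ext h⟩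
  refine ⟨?_, fun x => ?_⟩
  · rw [LinearMap.lTensor_inj_iff_rTensor_inj]
    exact CAlgUI.ui_of_flat_quotient hR hR' (LinearMap.surjective_rangeRestrict _) N
  · have hc : δ.lTensor N x = (LinearMap.range δ).subtype.lTensor N (δ.rangeRestrict.lTensor N x) := by
      rw [← LinearMap.comp_apply, ← LinearMap.lTensor_comp]; rfl
    rw [hc, map_eq_zero_iff _ hui]
    exact lTensor_exact N hR' (LinearMap.surjective_rangeRestrict _) x

/-- The base change of a kernel, from those of the complex. -/
theorem bijective_lift_of_kerExact {B : Type u} [CommRing B] [Algebra A B]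
    {N N₀ N₁ : Type u} [AddCommGroup N] [Module A N] [Module B N] [IsScalarTower A B N]
    [AddCommGroup N₀] [Module A N₀] [Module B N₀] [IsScalarTower A B N₀]
    [AddCommGroup N₁] [Module A N₁] [Module B N₁] [IsScalarTower A B N₁]
    (l : M →ₗ[A] N) (l₀ : M₀ →ₗ[A] N₀) (l₁ : M₁ →ₗ[A] N₁)
    (R : M →ₗ[A] M₀) (δ : M₀ →ₗ[A] M₁) (R' : N →ₗ[B] N₀) (δ' : N₀ →ₗ[B] N₁)
    (hR : Function.Injective (R.lTensor B)) (hex : Function.Exact (R.lTensor B) (δ.lTensor B))
    (hR' : Function.Injective R') (hRδ' : ∀ y, δ' (R' y) = 0)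
    (h0 : ∀ x, R' (l x) = l₀ (R x)) (h1 : ∀ x, δ' (l₀ x) = l₁ (δ x))
    (hb₀ : Function.Bijective (l₀.liftBaseChange B)) (hb₁ : Function.Injective (l₁.liftBaseChange B)) :
    Function.Bijective (l.liftBaseChange B) := by
  have k0 : ∀ w, R' (l.liftBaseChange B w) = l₀.liftBaseChange B (R.lTensor B w) := fun w => by
    induction w using TensorProduct.induction_on with
    | zero => simp
    | tmul b m => simp [h0]
    | add a b ha hb => simp only [map_add, ha, hb]
  have k1 : ∀ w, δ' (l₀.liftBaseChange B w) = l₁.liftBaseChange B (δ.lTensor B w) := fun w => by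
    induction w using TensorProduct.induction_on with
    | zero => simp
    | tmul b m => simp [h1]
    | add a b ha hb => simp only [map_add, ha, hb]
  refine ⟨(injective_iff_map_eq_zero _).2 fun w hw => hR ?_, fun y => ?_⟩
  · rw [map_zero]
    exact hb₀.1 (by rw [← k0, hw, map_zero, map_zero])
  · obtain ⟨z, hz⟩ := hb₀.2 (R' y)
    have hdz : δ.lTensor B z = 0 := hb₁ (by rw [← k1, hz, hRδ', map_zero])
    obtain ⟨w, rfl⟩ := (hex z).1 hdz
    exact ⟨w, hR' ((k0 w).trans hz)⟩

end Modules

/-- A right exact `T⁰` lifts kernels modulo ideals. -/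
theorem ker_lift_of_preservesEpi (K : CochainComplex (ModuleCat.{u} A) ℕ)
    (h : (CohIII.TFun K 0).PreservesEpimorphisms) (I : Ideal A) (c : K.X 0)
    (hc : (K.d 0 1).hom c ∈ I • (⊤ : Submodule A (K.X 1))) :
    ∃ k, (K.d 0 1).hom k = 0 ∧ c - k ∈ I • (⊤ : Submodule A (K.X 0)) := by
  have hi : (ComplexShape.up ℕ).prev 0 = 0 := CochainComplex.prev_nat_zero
  have hk : (ComplexShape.up ℕ).next 0 = 1 := CochainComplex.next ℕ 0
  let q : ModuleCat.of A A ⟶ ModuleCat.of A (A ⧸ I) := ModuleCat.ofHom I.mkQ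
  haveI : Epi q := (ModuleCat.epi_iff_surjective _).2 (Submodule.mkQ_surjective _)
  have hs : Function.Surjective ((CohIII.TFun K 0).map q).hom :=
    (ModuleCat.epi_iff_surjective _).1 (h.preserves q)
  have hs' : Function.Surjective (HomologicalComplex.homologyMap (CohIII.tensorMap K q) 0).hom := hs
  rw [FlatCxLib.homologyMap_surjective_iff _ hi hk] at hs'
  let e₁ := TensorProduct.tensorQuotEquivQuotSMul (K.X 1) I
  let e₀ := TensorProduct.tensorQuotEquivQuotSMul (K.X 0) I
  have hy : (K.d 0 1).hom.rTensor (A ⧸ I) (c ⊗ₜ[A] Ideal.Quotient.mk I 1) = 0 := by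
    rw [LinearMap.rTensor_tmul]
    refine e₁.injective ((TensorProduct.tensorQuotEquivQuotSMul_tmul_mk I _ 1).trans ?_)
    rw [map_zero, one_smul]
    exact (Submodule.Quotient.mk_eq_zero _).2 hc
  obtain ⟨x, hx, hxc⟩ := hs' (c ⊗ₜ[A] Ideal.Quotient.mk I 1) hy
  obtain ⟨k, rfl⟩ : ∃ k, k ⊗ₜ[A] (1 : A) = x := ⟨TensorProduct.rid A _ x, by
    rw [← TensorProduct.rid_symm_apply, LinearEquiv.symm_apply_apply]⟩
  refine ⟨k, ?_, ?_⟩
  · have := congrArg (TensorProduct.rid A (K.X 1)) (show (K.d 0 1).hom.rTensor A (k ⊗ₜ[A] (1 : A)) = 0 from hx)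
    simpa using this
  · obtain ⟨w, hw⟩ := hxc
    have hd : (CohIII.tensorObj K (ModuleCat.of A (A ⧸ I))).d 0 0 = 0 :=
      HomologicalComplex.shape _ 0 0 (by simp)
    rw [hd] at hw
    have heq : k ⊗ₜ[A] Ideal.Quotient.mk I 1 = c ⊗ₜ[A] Ideal.Quotient.mk I 1 := sub_eq_zero.1 hw.symm
    have := congrArg e₀ heq
    erw [TensorProduct.tensorQuotEquivQuotSMul_tmul_mk, TensorProduct.tensorQuotEquivQuotSMul_tmul_mk] at this
    rw [one_smul, one_smul] at this
    exact (Submodule.Quotient.eq _).1 this.symm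

/-- A right exact `T⁰` gives a flat cokernel of the first differential. -/
theorem flat_coker_of_preservesEpi (K : CochainComplex (ModuleCat.{u} A) ℕ) [Module.Flat A (K.X 1)]
    (h : (CohIII.TFun K 0).PreservesEpimorphisms) :
    Module.Flat A (K.X 1 ⧸ LinearMap.range (K.d 0 1).hom) :=
  flat_coker_of_ker_lift (K.d 0 1).hom (ker_lift_of_preservesEpi K h)

end Groth.Agent.CohPullX
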