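import Groth.Agent.CohPullX.FpExchange
import Groth.Agent.CohPullX.KerBC

/-!
# The model as a functor of the coefficient module, and the Čech complex
-/

set_option autoImplicit false
set_option linter.style.haveILetI false
set_option linter.unusedSectionVars false
set_option backward.isDefEq.respectTransparency false
set_option backward.isDefEq.respectTransparency.types false
set_option maxHeartbeats 1000000

universe u

open CategoryTheory CategoryTheory.Limits AlgebraicGeometry TopologicalSpace Opposite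
open scoped TensorProduct

namespace Groth.Agent.CohPullX

open Groth.Agent

/-- `N ↦ F ⊗ Ñ` depends only on `F` up to isomorphism. -/
noncomputable def tensorAFunctorCongr (A : Type u) [CommRing A] {X : Scheme.{u}}
    [X.Over (Spec (CommRingCat.of A))] {F G : X.Modules} (e : F ≅ G) :
    CohIII.tensorAFunctor A F ≅ CohIII.tensorAFunctor A G :=
  Functor.isoWhiskerLeft (tilde.functor (CommRingCat.of A))
    (Functor.isoWhiskerLeft (Scheme.Modules.pullback (X ↘ Spec (CommRingCat.of A)))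
      (NatIso.ofComponents (fun N => ((DCoh.tensorBi.obj N).mapIso e))
        fun {N N'} f => ((DCoh.tensorBi.map f).naturality e.hom).symm))

theorem preservesEpi_of_forget_iso {A : Type u} [CommRing A] {T T' : ModuleCat.{u} A ⥤ ModuleCat.{u} A}
    (e : T ⋙ forget₂ (ModuleCat.{u} A) AddCommGrpCat.{u} ≅ T' ⋙ forget₂ (ModuleCat.{u} A) AddCommGrpCat.{u})
    (h : T.PreservesEpimorphisms) : T'.PreservesEpimorphisms := ⟨fun {M N} f hf => by
  rw [ModuleCat.epi_iff_surjective]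
  intro y
  have hs : Function.Surjective (T.map f).hom := (ModuleCat.epi_iff_surjective _).1 (h.preserves f)
  obtain ⟨x, hx⟩ := hs ((e.app N).addCommGroupIsoToAddEquiv.symm y)
  refine ⟨(e.app M).addCommGroupIsoToAddEquiv x, ?_⟩
  have hn := ConcreteCategory.congr_hom (e.hom.naturality f) x
  refine hn.symm.trans ?_
  exact (congrArg (e.app N).addCommGroupIsoToAddEquiv hx).trans
    ((e.app N).addCommGroupIsoToAddEquiv.apply_symm_apply y)⟩

/-- Exactness at a prime gives right exactness after inverting some element outside it. -/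
theorem exists_preservesEpi_bc {A : Type u} [CommRing A] [IsNoetherianRing A]
    (P : ChainComplex (ModuleCat.{u} A) ℤ) (hfin : ∀ i, Module.Finite A (P.X i)) (hfl : ∀ i, Module.Flat A (P.X i))
    (x : PrimeSpectrum A) (q : ℤ) (h : QCoh.IsExactT (QCoh.locCx P x) q) :
    ∃ r ∉ x.asIdeal, ∀ (B : Type u) [CommRing B] (φ : A →+* B), IsUnit (φ r) →
      (CohIII.TFun (CohIII.bcCx φ P) q).PreservesEpimorphisms := by
  let Ax := Localization.AtPrime x.asIdeal
  haveI : IsNoetherianRing Ax := IsLocalization.isNoetherianRing x.asIdeal.primeCompl _ inferInstance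
  have hr : q - 1 + 1 = q := by lia
  haveI := hfin (q - 1)
  haveI : Module.Flat Ax (Ax ⊗[A] FlatCxLib.Coker P q (q - 1)) :=
    (FlatCxLib.preservesEpi_bcCx_iff P hfl hr).1 h.2
  haveI : Module.Finite A (FlatCxLib.Coker P q (q - 1)) := inferInstance
  haveI : Module.FinitePresentation A (FlatCxLib.Coker P q (q - 1)) := Module.finitePresentation_of_finite _ _
  haveI : Module.Free Ax (Ax ⊗[A] FlatCxLib.Coker P q (q - 1)) := Module.free_of_flat_of_isLocalRing
  obtain ⟨r, hr₁, hK⟩ := exists_free_away (FlatCxLib.Coker P q (q - 1)) x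
  refine ⟨r, hr₁, fun B _ φ hu => ?_⟩
  letI := φ.toAlgebra
  obtain ⟨eK⟩ := hK B hu
  exact (FlatCxLib.preservesEpi_bcCx_iff P (B := B) hfl hr).2 (Module.Flat.of_linearEquiv eK)

variable {X S : Scheme.{u}} {f : X ⟶ S} {M : X.Modules}

/-- The model computes `N ↦ H^p(F ⊗ N)` after any base change, naturally in `N`. -/
theorem nonempty_tfun_bc_iso {A₀ : Type u} [CommRing A₀] {V : S.Opens} {hV : IsAffineOpen V}
    {φ : A₀ →+* Γ(S, V)} {X₀ : Scheme.{u}} [X₀.Over (Spec (CommRingCat.of A₀))]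
    [IsProper (X₀ ↘ Spec (CommRingCat.of A₀))] {F₀ : X₀.Modules} (hF₀ : Coh.IsQCoh F₀)
    {P : ChainComplex (ModuleCat.{u} A₀) ℤ} (hP : QCoh.IsBCModel F₀ P)
    {g : ((f ⁻¹ᵁ V : X.Opens) : Scheme.{u}) ⟶ X₀}
    (hsq : IsPullback g (QCoh.overSpec f hV) (X₀ ↘ Spec (CommRingCat.of A₀)) (Spec.map (CommRingCat.ofHom φ)))
    (e : (Scheme.Modules.pullback g).obj F₀ ≅ (Scheme.Modules.pullback (f ⁻¹ᵁ V).ι).obj M)
    (B : Type u) [CommRing B] (ψ : Γ(S, V) →+* B) {X' : Scheme.{u}} [X'.Over (Spec (CommRingCat.of B))] (ι : X' ⟶ X)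
    (h : IsPullback ι (X' ↘ Spec (CommRingCat.of B)) f (Spec.map (CommRingCat.ofHom ψ) ≫ hV.fromSpec)) (p : ℕ) :
    Nonempty (CohIII.TFun (CohIII.bcCx (ψ.comp φ) P) (-(p : ℤ)) ⋙ forget₂ (ModuleCat.{u} B) AddCommGrpCat.{u} ≅
      CohIII.tensorAFunctor B ((Scheme.Modules.pullback ι).obj M) ⋙ CohIII.HAb X' p) := by
  haveI : CompactSpace X₀ := QuasiCompact.compactSpace_of_compactSpace (X₀ ↘ Spec (CommRingCat.of A₀))
  haveI : X₀.IsSeparated := ⟨by
    rw [← Limits.terminal.comp_from (X₀ ↘ Spec (CommRingCat.of A₀))]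
    infer_instance⟩
  have hpb := QCoh.isPullback_overSpec (f := f) hV
  let p' := X' ↘ Spec (CommRingCat.of B)
  let g' : X' ⟶ ((f ⁻¹ᵁ V : X.Opens) : Scheme.{u}) :=
    hpb.lift ι (p' ≫ Spec.map (CommRingCat.ofHom ψ)) (by rw [Category.assoc]; exact h.w)
  have hg : g' ≫ (f ⁻¹ᵁ V).ι = ι := hpb.lift_fst _ _ _
  have hsq' : IsPullback g' p' (QCoh.overSpec f hV) (Spec.map (CommRingCat.ofHom ψ)) :=
    IsPullback.of_right (by rw [hg]; exact h) (hpb.lift_snd _ _ _) hpb
  have hbig : IsPullback (g' ≫ g) p' (X₀ ↘ Spec (CommRingCat.of A₀))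
      (Spec.map (CommRingCat.ofHom (ψ.comp φ))) := by
    rw [CommRingCat.ofHom_comp, Spec.map_comp]
    exact hsq'.paste_horiz hsq
  let eF : (Scheme.Modules.pullback (g' ≫ g)).obj F₀ ≅ (Scheme.Modules.pullback ι).obj M :=
    ((Scheme.Modules.pullbackComp g' g).app F₀).symm ≪≫ (Scheme.Modules.pullback g').mapIso e ≪≫
      (Scheme.Modules.pullbackComp g' (f ⁻¹ᵁ V).ι).app M ≪≫ (Scheme.Modules.pullbackCongr hg).app M
  obtain ⟨b⟩ := QCoh.nonempty_bcT_iso P (ψ.comp φ) (-(p : ℤ))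
  obtain ⟨eP⟩ := hP.2.2.2.2.1 p
  obtain ⟨eH⟩ := QCoh.nonempty_HAb_bc_iso (ψ.comp φ) (g' ≫ g) hbig hF₀ p
  exact ⟨b ≪≫ Functor.isoWhiskerLeft _ eP ≪≫ eH.symm ≪≫
    Functor.isoWhiskerRight (tensorAFunctorCongr B eF) _⟩

variable [IsProper f] [LocallyOfFinitePresentation f] [HasInjectiveResolutions X.Modules]
  (hfp : CohB1.IsFP M) (hfl : FlatMod.IsFlatOver f M)

include hfp hfl

/-- Over an affine open: the model together with right exactness of the Čech complexes. -/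
theorem exists_isFpModel_cech {V : S.Opens} (hV : IsAffineOpen V) :
    ∃ (A₀ : Type u) (_ : CommRing A₀) (_ : IsNoetherianRing A₀) (φ : A₀ →+* Γ(S, V))
      (P : ChainComplex (ModuleCat.{u} A₀) ℤ), IsFpModel f M hV φ P ∧
      ∀ (B : Type u) [CommRing B] (ψ : Γ(S, V) →+* B) (X' : Scheme.{u}) [X'.Over (Spec (CommRingCat.of B))]
        (ι : X' ⟶ X), IsPullback ι (X' ↘ Spec (CommRingCat.of B)) f (Spec.map (CommRingCat.ofHom ψ) ≫ hV.fromSpec) →
        ∀ (p : ℕ), (CohIII.TFun (CohIII.bcCx (ψ.comp φ) P) (-(p : ℤ))).PreservesEpimorphisms →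
        ∀ {κ : Type u} [Finite κ] (U : κ → X'.Opens), ⨆ i, U i = ⊤ →
          (∀ {n : ℕ} (σ : Fin (n + 1) → κ), IsAffineOpen (⨅ a, U (σ a))) →
          (CohIII.TFun (QCoh.cechA (A := B) ((Scheme.Modules.pullback ι).obj M) U) p).PreservesEpimorphisms := by
  obtain ⟨A₀, _, hA, φ, P, hP, X₀, _, F₀, g, hp₀, hF₀, hP₀, hsq, ⟨e⟩⟩ := exists_isFpModel_data hfp hfl hV
  haveI := hp₀
  refine ⟨A₀, _, hA, φ, P, hP, fun B _ ψ X' _ ι h p hepi κ _ U hcov hU => ?_⟩
  obtain ⟨e₁⟩ := nonempty_tfun_bc_iso hF₀ hP₀ hsq e B ψ ι h p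
  obtain ⟨e₂⟩ := QCoh.nonempty_tfun_iso (A := B) _ (QCoh.isQCoh_pullback ι (QCoh.isQCoh_of_isFP hfp)) hcov hU p
  exact preservesEpi_of_forget_iso (e₁ ≪≫ e₂.symm) hepi

end Groth.Agent.CohPullX
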