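import Groth.Agent.CohPullX.FlatStage
import Groth.Agent.LimSm.Model
import Groth.Agent.ConsPropLib.Approx
import Groth.Agent.ConsPropLib.CoreProper
import Groth.Agent.FPEnough.Descend
import Groth.Agent.QCoh.Support

/-!
# Noetherian models of proper morphisms with a flat module of finite presentation
-/

set_option autoImplicit false
set_option linter.style.haveILetI false
set_option linter.unusedSectionVars false
set_option backward.isDefEq.respectTransparency false
set_option backward.isDefEq.respectTransparency.types false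

universe u

open CategoryTheory CategoryTheory.Limits AlgebraicGeometry TopologicalSpace Opposite

namespace Groth.Agent.CohPullX

open Groth.Agent Groth.Agent.MorLib Groth.Agent.ConsPropLib

/-- A proper morphism of finite presentation to an affine scheme, with a flat module of finite
presentation, comes from a proper morphism and a flat coherent module over a noetherian ring. -/
theorem exists_proper_flat_model (A : Type u) [CommRing A] {X : Scheme.{u}} (f : X ⟶ Spec (CommRingCat.of A))
    [IsProper f] [LocallyOfFinitePresentation f] {F : X.Modules} (hfp : CohB1.IsFP F)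
    (hfl : FlatMod.IsFlatOver f F) :
    ∃ (A₀ : Type u) (_ : CommRing A₀) (_ : IsNoetherianRing A₀) (φ : A₀ →+* A) (X₀ : Scheme.{u})
      (f₀ : X₀ ⟶ Spec (CommRingCat.of A₀)) (g : X ⟶ X₀) (F₀ : X₀.Modules),
      IsProper f₀ ∧ IsPullback g f f₀ (Spec.map (CommRingCat.ofHom φ)) ∧ Coh.IsCoh F₀ ∧
        FlatMod.IsFlatOver f₀ F₀ ∧ Nonempty ((Scheme.Modules.pullback g).obj F₀ ≅ F) := by
  let D := NoethApprox.diagram (CommRingCat.of A)
  let c : Cone D := NoethApprox.cone (CommRingCat.of A)
  have hc : IsLimit c := NoethApprox.isLimit (CommRingCat.of A)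
  haveI : ∀ {i j} (a : i ⟶ j), IsAffineHom (D.map a) := fun a => NoethApprox.isAffineHom_map _ a
  haveI : ∀ i, IsAffine (D.obj i) := fun i => NoethApprox.isAffine_obj _ i
  let fc : X ⟶ c.pt := f
  haveI : LocallyOfFinitePresentation fc := ‹LocallyOfFinitePresentation f›
  haveI : IsProper fc := ‹IsProper f›
  obtain ⟨m, X₁, fm, gm, hm⟩ := hasModel hc fc
  haveI := hm.qc
  haveI := hm.qs
  haveI := hm.lfp
  obtain ⟨i, ψ, hi⟩ := Desc.descend D c hc m (P := @IsProper) (Q := @LocallyOfFinitePresentation)
    ConsPropLib.core_isProper fm hm.lfp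
    (Desc.of_two @IsProper hm.sq (IsPullback.of_hasPullback _ _) ‹IsProper fc›)
  have hM := hm.pushed ψ
  let fi := pullback.snd fm (D.map ψ)
  haveI : IsProper fi := hi
  haveI : LocallyOfFinitePresentation fi := hM.lfp
  -- descend the module
  let E := BC.diag D fi
  let cE : Cone E := BC.cone D fi hM.sq
  have hcE : IsLimit cE := BC.isLimitCone D fi hM.sq hc
  haveI : ∀ {a b : Over i} (r : a ⟶ b), IsAffineHom (E.map r) := fun {a b} r =>
    MorphismProperty.of_isPullback (BC.isPullback_map D fi r).flip inferInstance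
  let top : Over i := Over.mk (𝟙 i)
  haveI hcomp : ∀ a : Over i, CompactSpace (E.obj a) := fun a =>
    QuasiCompact.compactSpace_of_compactSpace (pullback.snd fi (D.map a.hom))
  haveI : QuasiSeparatedSpace (E.obj top) :=
    quasiSeparatedSpace_of_quasiSeparated (pullback.snd fi (D.map top.hom))
  have hF : Coh.IsQCoh F := QCoh.isQCoh_of_isFP hfp
  obtain ⟨j, -, Fj, hFj, hFjfp, ⟨ej⟩⟩ := FPEnough.exists_module_descend (D := E) (c := cE) hcE (i := top)
    (F := F) hF hfp
  let fj := pullback.snd fi (D.map j.hom)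
  haveI : IsProper fj := inferInstance
  haveI : LocallyOfFinitePresentation fj := inferInstance
  have sqj : IsPullback (BC.proj D fi hM.sq j) fc fj (c.π.app j.left) := BC.isPullback_proj D fi hM.sq j
  haveI : CompactSpace ↥(pullback fi (D.map j.hom)) := hcomp j
  -- descend flatness
  let e0 := sqj.isoPullback
  have hflat : FlatMod.IsFlatOver (pullback.snd fj (c.π.app j.left))
      ((Scheme.Modules.pullback (pullback.fst fj (c.π.app j.left))).obj Fj) := fun x => by
    have hsq : IsPullback e0.inv (pullback.snd fj (c.π.app j.left)) fc (𝟙 c.pt) :=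
      haveI : IsIso (𝟙 c.pt) := IsIso.id c.pt
      IsPullback.of_horiz_isIso ⟨(e0.inv_comp_eq.2 sqj.isoPullback_hom_snd.symm).trans (Category.comp_id _).symm⟩
    refine GrFlat5.isFlatOverAt_of_iso _ ((Scheme.Modules.pullback e0.inv).mapIso ej.symm ≪≫
      (Scheme.Modules.pullbackComp e0.inv (BC.proj D fi hM.sq j)).app Fj ≪≫
      (Scheme.Modules.pullbackCongr (e0.inv_comp_eq.2 sqj.isoPullback_hom_fst.symm)).app Fj) x ?_
    exact MorLib.FlatBC.isFlatOverAt_baseChange _ _ e0.inv (𝟙 _) hsq F x (hfl _)
  obtain ⟨k, φ, hk⟩ := exists_flat_stage_module D hc j.left fj hFjfp hflat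
  let B := Algebra.adjoin ℤ ((k.unop : Finset A) : Set A)
  haveI : Algebra.FiniteType ℤ B := Algebra.FiniteType.adjoin_of_finite (Finset.finite_toSet _)
  haveI : IsNoetherianRing B := Algebra.FiniteType.isNoetherianRing ℤ _
  let X₀ := pullback fj (D.map φ)
  let g : X ⟶ X₀ := pullback.lift (BC.proj D fi hM.sq j) (fc ≫ c.π.app k)
    (by rw [Category.assoc, c.w]; exact sqj.w)
  have hg1 : g ≫ pullback.fst fj (D.map φ) = BC.proj D fi hM.sq j := pullback.lift_fst _ _ _
  have hg : IsPullback g fc (pullback.snd fj (D.map φ)) (c.π.app k) := by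
    refine IsPullback.of_right ?_ (pullback.lift_snd _ _ _) (IsPullback.of_hasPullback fj (D.map φ))
    rw [hg1, c.w]
    exact sqj
  haveI : IsProper (pullback.snd fj (D.map φ)) := inferInstance
  haveI : IsLocallyNoetherian (D.obj k) := inferInstance
  haveI : IsLocallyNoetherian X₀ := LocallyOfFiniteType.isLocallyNoetherian (pullback.snd fj (D.map φ))
  refine ⟨B, inferInstance, inferInstance, B.val.toRingHom, X₀, pullback.snd fj (D.map φ), g,
    (Scheme.Modules.pullback (pullback.fst fj (D.map φ))).obj Fj, ‹_›, hg,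
    QCoh.isCoh_iff_isFP.2 (LimModLib.isFP_pullback _ hFj hFjfp), hk, ?_⟩
  exact ⟨(Scheme.Modules.pullbackComp g (pullback.fst fj (D.map φ))).app Fj ≪≫
    (Scheme.Modules.pullbackCongr hg1).app Fj ≪≫ ej⟩

end Groth.Agent.CohPullX
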